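import Mathlib
set_option linter.all false

/-!
# The double cover of the symmetric group, by Clifford generators over `ZMod 3`

`P a b` are Pauli-type operators on the space of functions `(Fin n → ZMod 2) → ZMod 3`.
`L i` are pairwise anticommuting operators with square one, `R i` is a second such family
commuting with the first one, `D` is the parity operator.  The group `cover n` consists of the pairs
`(x, σ)` where `x` is an invertible operator which conjugates `L i` to `L (σ i)`, and commutes up to
the sign of `σ` with `R i` and with `D`.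
-/

set_option autoImplicit false

namespace Cfsg.Agent.CharactersDeep.DoubleCover

open Equiv

/-- the sign character of `ZMod 2` with values in `ZMod 3` -/
def eps (x : ZMod 2) : ZMod 3 := if x = 0 then 1 else -1

theorem eps_add (x y : ZMod 2) : eps (x + y) = eps x * eps y := by
  revert x y; decide

theorem eps_zero : eps 0 = 1 := rfl

theorem eps_one : eps 1 = -1 := by decide

theorem eps_mul_self (x : ZMod 2) : eps x * eps x = 1 := by
  revert x; decide

theorem eps_ne_zero (x : ZMod 2) : eps x ≠ 0 := by
  revert x; decide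

variable {n : ℕ}

/-- the space on which everything acts -/
def V (n : ℕ) : Type := (Fin n → ZMod 2) → ZMod 3

instance instAddCommGroupV (n : ℕ) : AddCommGroup (V n) :=
  inferInstanceAs (AddCommGroup ((Fin n → ZMod 2) → ZMod 3))

instance instModuleV (n : ℕ) : Module (ZMod 3) (V n) :=
  inferInstanceAs (Module (ZMod 3) ((Fin n → ZMod 2) → ZMod 3))

instance instFiniteV (n : ℕ) : Finite (V n) :=
  inferInstanceAs (Finite ((Fin n → ZMod 2) → ZMod 3))

/-- the operator algebra -/
abbrev E (n : ℕ) : Type := Module.End (ZMod 3) (V n)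

theorem V_ext {f g : V n} (h : ∀ u : Fin n → ZMod 2, f u = g u) : f = g := funext h

theorem add_apply (f g : V n) (u : Fin n → ZMod 2) : (f + g) u = f u + g u := rfl

theorem neg_apply (f : V n) (u : Fin n → ZMod 2) : (-f) u = -(f u) := rfl

theorem smul_apply (c : ZMod 3) (f : V n) (u : Fin n → ZMod 2) : (c • f) u = c * f u := rfl

theorem sum_apply {ι : Type*} (s : Finset ι) (f : ι → V n) (u : Fin n → ZMod 2) :
    (∑ i ∈ s, f i) u = ∑ i ∈ s, f i u :=
  Finset.sum_apply u s (fun i => (f i : (Fin n → ZMod 2) → ZMod 3))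

/-- the vacuum vector -/
def vac (n : ℕ) : V n := fun u => if u = 0 then 1 else 0

theorem vac_zero : vac n 0 = 1 := if_pos rfl

theorem vac_of_ne {u : Fin n → ZMod 2} (h : u ≠ 0) : vac n u = 0 := if_neg h

/-- Pauli operators -/
def P (a b : Fin n → ZMod 2) : E n where
  toFun f := fun u => eps (b ⬝ᵥ u) * f (u + a)
  map_add' f g := by
    refine V_ext fun u => ?_
    change eps (b ⬝ᵥ u) * (f (u + a) + g (u + a)) =
      eps (b ⬝ᵥ u) * f (u + a) + eps (b ⬝ᵥ u) * g (u + a)
    ring
  map_smul' c f := by
    refine V_ext fun u => ?_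
    change eps (b ⬝ᵥ u) * (c * f (u + a)) = c * (eps (b ⬝ᵥ u) * f (u + a))
    ring

theorem P_apply (a b : Fin n → ZMod 2) (f : V n) (u : Fin n → ZMod 2) :
    P a b f u = eps (b ⬝ᵥ u) * f (u + a) := rfl

theorem P_mul (a b a' b' : Fin n → ZMod 2) :
    P a b * P a' b' = eps (b' ⬝ᵥ a) • P (a + a') (b + b') := by
  refine LinearMap.ext fun f => V_ext fun u => ?_
  rw [Module.End.mul_apply, P_apply, P_apply, LinearMap.smul_apply, smul_apply, P_apply,
    dotProduct_add, add_dotProduct, eps_add, eps_add, add_assoc]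
  ring

theorem P_zero : (P 0 0 : E n) = 1 := by
  refine LinearMap.ext fun f => V_ext fun u => ?_
  rw [P_apply, zero_dotProduct, eps_zero, one_mul, add_zero, Module.End.one_apply]

/-- the commutation rule of Pauli operators -/
theorem P_comm (a b a' b' : Fin n → ZMod 2) :
    P a b * P a' b' = eps (b' ⬝ᵥ a + b ⬝ᵥ a') • (P a' b' * P a b) := by
  rw [P_mul, P_mul, smul_smul, add_comm a' a, add_comm b' b, eps_add, mul_assoc, eps_mul_self,
    mul_one]

/-- The Clifford generators. -/
def L (i : Fin n) : E n := P (Pi.single i 1) (fun j => if j < i then 1 else 0)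

/-- The second family of Clifford generators. -/
def R (i : Fin n) : E n := P (Pi.single i 1) (fun j => if i < j then 1 else 0)

/-- The parity operator. -/
def D : E n := P 0 1

theorem L_def (i : Fin n) : L i = P (Pi.single i 1) (fun j => if j < i then 1 else 0) := rfl
theorem R_def (i : Fin n) : R i = P (Pi.single i 1) (fun j => if i < j then 1 else 0) := rfl
theorem D_def : (D : E n) = P 0 1 := rfl

theorem two_vec (a : Fin n → ZMod 2) : a + a = 0 := by
  funext i
  exact CharTwo.add_self_eq_zero _

theorem L_mul_self (i : Fin n) : (L i : E n) * L i = 1 := by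
  rw [L_def, P_mul, dotProduct_single, two_vec, two_vec, if_neg (lt_irrefl i), zero_mul, eps_zero,
    one_smul, P_zero]

theorem D_mul_self : (D : E n) * D = 1 := by
  rw [D_def, P_mul, dotProduct_zero, two_vec, two_vec, eps_zero, one_smul, P_zero]

theorem eps_one_smul (x : E n) : eps 1 • x = -x := by
  rw [eps_one, neg_smul, one_smul]

theorem L_anticomm {i j : Fin n} (h : i ≠ j) :
    (L i : E n) * L j = -(L j * L i) := by
  rw [L_def, L_def, P_comm, dotProduct_single, dotProduct_single]
  rcases lt_or_gt_of_ne h with h' | h'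
  · rw [if_pos h', if_neg (not_lt.2 h'.le), one_mul, zero_mul, add_zero, eps_one_smul]
  · rw [if_pos h', if_neg (not_lt.2 h'.le), one_mul, zero_mul, zero_add, eps_one_smul]

theorem L_comm_R (i j : Fin n) :
    (L i : E n) * R j = R j * L i := by
  rw [L_def, R_def, P_comm, dotProduct_single, dotProduct_single, CharTwo.add_self_eq_zero,
    eps_zero, one_smul]

theorem L_anticomm_D (i : Fin n) :
    (L i : E n) * D = -(D * L i) := by
  rw [L_def, D_def, P_comm, dotProduct_single, dotProduct_zero, add_zero, Pi.one_apply, one_mul,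
    eps_one_smul]

theorem R_anticomm_D (i : Fin n) :
    (R i : E n) * D = -(D * R i) := by
  rw [R_def, D_def, P_comm, dotProduct_single, dotProduct_zero, add_zero, Pi.one_apply, one_mul,
    eps_one_smul]

/-- an operator commuting with all `L i`, all `R i` and `D` is a scalar -/
theorem exists_smul_one_of_commute {x : E n}
    (hL : ∀ i, x * L i = L i * x) (hR : ∀ i, x * R i = R i * x) (hD : x * D = D * x) :
    ∃ c : ZMod 3, x = c • (1 : E n) := by
  classical
  -- the set of labels whose Pauli operator commutes with `x` is closed under addition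
  have hadd : ∀ a b a' b' : Fin n → ZMod 2, x * P a b = P a b * x → x * P a' b' = P a' b' * x →
      x * P (a + a') (b + b') = P (a + a') (b + b') * x := by
    intro a b a' b' h h'
    have e : P (a + a') (b + b') = eps (b' ⬝ᵥ a) • (P a b * P a' b') := by
      rw [P_mul, smul_smul, eps_mul_self, one_smul]
    rw [e, mul_smul_comm, smul_mul_assoc, ← mul_assoc, h, mul_assoc, h', mul_assoc]
  have hZ : ∀ i : Fin n, x * P 0 (Pi.single i 1) = P 0 (Pi.single i 1) * x := by
    intro i
    have h1 := hadd _ _ _ _ (hL i) (hR i)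
    have h2 := hadd _ _ _ _ h1 hD
    have e1 : (Pi.single i 1 + Pi.single i 1 + 0 : Fin n → ZMod 2) = 0 := by
      rw [add_zero, two_vec]
    have e2 : ((fun j => if j < i then 1 else 0) + (fun j => if i < j then 1 else 0) + 1 :
        Fin n → ZMod 2) = Pi.single i 1 := by
      funext j
      rcases lt_trichotomy j i with h | h | h
      · rw [Pi.single_eq_of_ne h.ne]
        simp only [Pi.add_apply, if_pos h, if_neg (not_lt.2 h.le), Pi.one_apply]
        decide
      · subst h
        simp only [Pi.add_apply, lt_irrefl, if_false, Pi.one_apply, Pi.single_eq_same]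
        decide
      · rw [Pi.single_eq_of_ne h.ne']
        simp only [Pi.add_apply, if_pos h, if_neg (not_lt.2 h.le), Pi.one_apply]
        decide
    rw [e1, e2] at h2
    exact h2
  -- closed under sums of labels
  have hsumZ : ∀ s : Finset (Fin n), x * P 0 (∑ i ∈ s, Pi.single i 1) =
      P 0 (∑ i ∈ s, Pi.single i 1) * x := by
    intro s
    induction s using Finset.induction_on with
    | empty => rw [Finset.sum_empty, P_zero, mul_one, one_mul]
    | insert i s his ih =>
      rw [Finset.sum_insert his]
      have := hadd _ _ _ _ (hZ i) ih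
      rwa [add_zero] at this
  have hX : ∀ i : Fin n, x * P (Pi.single i 1) 0 = P (Pi.single i 1) 0 * x := by
    intro i
    have h1 := hadd _ _ _ _ (hL i) (hsumZ (Finset.univ.filter (· < i)))
    have e : ((fun j => if j < i then 1 else 0) +
        ∑ k ∈ Finset.univ.filter (· < i), Pi.single k 1 : Fin n → ZMod 2) = 0 := by
      funext j
      rw [Pi.add_apply, Finset.sum_apply, Finset.sum_pi_single]
      simp only [Finset.mem_filter, Finset.mem_univ, true_and, Pi.zero_apply]
      exact CharTwo.add_self_eq_zero _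
    rw [e, add_zero] at h1
    exact h1
  have hsumX : ∀ s : Finset (Fin n), x * P (∑ i ∈ s, Pi.single i 1) 0 =
      P (∑ i ∈ s, Pi.single i 1) 0 * x := by
    intro s
    induction s using Finset.induction_on with
    | empty => rw [Finset.sum_empty, P_zero, mul_one, one_mul]
    | insert i s his ih =>
      rw [Finset.sum_insert his]
      have := hadd _ _ _ _ (hX i) ih
      rwa [add_zero] at this
  have hvec : ∀ a : Fin n → ZMod 2, a = ∑ i ∈ Finset.univ.filter (fun i => a i = 1),
      (Pi.single i 1 : Fin n → ZMod 2) := by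
    intro a
    funext j
    rw [Finset.sum_apply, Finset.sum_pi_single]
    simp only [Finset.mem_filter, Finset.mem_univ, true_and]
    have : ∀ y : ZMod 2, y = if y = 1 then 1 else 0 := by decide
    exact this (a j)
  have hXall : ∀ a : Fin n → ZMod 2, x * P a 0 = P a 0 * x := by
    intro a
    rw [hvec a]
    exact hsumX _
  -- the vacuum vector
  set g : V n := x (vac n) with hg
  have hg0 : ∀ u : Fin n → ZMod 2, u ≠ 0 → g u = 0 := by
    intro u hu
    obtain ⟨i, hi⟩ : ∃ i, u i ≠ 0 := by
      by_contra hcon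
      push Not at hcon
      exact hu (funext hcon)
    have hi1 : u i = 1 := by
      have : ∀ y : ZMod 2, y ≠ 0 → y = 1 := by decide
      exact this _ hi
    have h1 : P 0 (Pi.single i 1) g = g := by
      rw [hg, ← Module.End.mul_apply, ← hZ i, Module.End.mul_apply]
      congr 1
      refine V_ext fun v => ?_
      rw [P_apply, add_zero]
      by_cases hv : v = 0
      · rw [hv, dotProduct_zero, eps_zero, one_mul]
      · rw [vac_of_ne hv, mul_zero]
    have h2 : P 0 (Pi.single i 1) g u = g u := by rw [h1]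
    rw [P_apply, add_zero, single_dotProduct, hi1, one_mul, eps_one] at h2
    have : ∀ y : ZMod 3, -1 * y = y → y = 0 := by decide
    exact this _ h2
  refine ⟨g 0, LinearMap.ext fun f => V_ext fun u => ?_⟩
  have hne : ∀ u a : Fin n → ZMod 2, a ≠ u → u + a ≠ 0 := by
    intro u a hav h
    apply hav
    have h2 := two_vec u
    rw [← h] at h2
    exact (add_left_cancel h2).symm
  have hf : f = ∑ a : Fin n → ZMod 2, f a • P a 0 (vac n) := by
    refine V_ext fun v => ?_
    rw [sum_apply, Finset.sum_eq_single v]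
    · rw [smul_apply, P_apply, zero_dotProduct, eps_zero, two_vec, vac_zero, mul_one, mul_one]
    · intro a _ hav
      rw [smul_apply, P_apply, vac_of_ne (hne _ _ hav), mul_zero, mul_zero]
    · intro h
      exact absurd (Finset.mem_univ v) h
  rw [LinearMap.smul_apply, Module.End.one_apply, smul_apply]
  conv_lhs => rw [hf]
  rw [map_sum, sum_apply, Finset.sum_eq_single u]
  · rw [map_smul, ← Module.End.mul_apply, hXall, Module.End.mul_apply, ← hg, smul_apply,
      P_apply, zero_dotProduct, eps_zero, two_vec, one_mul, mul_comm]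
  · intro a _ hav
    rw [map_smul, ← Module.End.mul_apply, hXall, Module.End.mul_apply, ← hg, smul_apply,
      P_apply, hg0 _ (hne _ _ hav), mul_zero, mul_zero]
  · intro h
    exact absurd (Finset.mem_univ u) h

/-- The double cover of the symmetric group: pairs `(x, σ)` with `x * L i = L (σ i) * x`, and
`x` commutes up to the sign of `σ` with all `R i` and with `D`. -/
def cover (n : ℕ) : Subgroup ((E n)ˣ × Perm (Fin n)) where
  carrier := {p | (∀ i, (p.1 : E n) * L i = (L (p.2 i) : E n) * p.1) ∧
    (∀ i, (p.1 : E n) * R i = Perm.sign p.2 • ((R i : E n) * p.1)) ∧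
    (p.1 : E n) * D = Perm.sign p.2 • ((D : E n) * (p.1 : E n))}
  mul_mem' := by
    rintro p q ⟨p1, p2, p3⟩ ⟨q1, q2, q3⟩
    refine ⟨fun i => ?_, fun i => ?_, ?_⟩
    · rw [Prod.fst_mul, Prod.snd_mul, Units.val_mul, mul_assoc, q1, ← mul_assoc, p1, mul_assoc,
        Perm.mul_apply]
    · rw [Prod.fst_mul, Prod.snd_mul, Units.val_mul, mul_assoc, q2, mul_smul_comm, ← mul_assoc, p2,
        smul_mul_assoc, smul_smul, mul_assoc, map_mul, mul_comm]
    · rw [Prod.fst_mul, Prod.snd_mul, Units.val_mul, mul_assoc, q3, mul_smul_comm, ← mul_assoc, p3,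
        smul_mul_assoc, smul_smul, mul_assoc, map_mul, mul_comm]
  one_mem' := by
    refine ⟨fun i => ?_, fun i => ?_, ?_⟩
    · rw [Prod.fst_one, Prod.snd_one, Units.val_one, one_mul, mul_one, Perm.one_apply]
    · rw [Prod.fst_one, Prod.snd_one, Units.val_one, one_mul, mul_one, map_one, one_smul]
    · rw [Prod.fst_one, Prod.snd_one, Units.val_one, one_mul, mul_one, map_one, one_smul]
  inv_mem' := by
    rintro p ⟨p1, p2, p3⟩
    have key : ∀ (X Y : E n), (p.1 : E n) * X =
        Y * p.1 → ((p.1⁻¹ : (E n)ˣ) : E n) * Y =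
          X * ((p.1⁻¹ : (E n)ˣ) : E n) := by
      intro X Y h
      rw [Units.inv_mul_eq_iff_eq_mul, ← mul_assoc, h, mul_assoc, Units.mul_inv, mul_one]
    have hs : Perm.sign p.2 * Perm.sign p.2 = 1 := Int.units_mul_self _
    refine ⟨fun i => ?_, fun i => ?_, ?_⟩
    · rw [Prod.fst_inv, Prod.snd_inv]
      refine key _ _ ?_
      rw [p1, show p.2 (p.2⁻¹ i) = i from Equiv.apply_symm_apply p.2 i]
    · rw [Prod.fst_inv, Prod.snd_inv, Perm.sign_inv, ← smul_mul_assoc]
      refine key _ _ ?_
      rw [mul_smul_comm, p2, smul_smul, hs, one_smul]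
    · rw [Prod.fst_inv, Prod.snd_inv, Perm.sign_inv, ← smul_mul_assoc]
      refine key _ _ ?_
      rw [mul_smul_comm, p3, smul_smul, hs, one_smul]

theorem mem_cover_iff {p : (E n)ˣ × Perm (Fin n)} : p ∈ cover n ↔
    (∀ i, (p.1 : E n) * L i = (L (p.2 i) : E n) * p.1) ∧
    (∀ i, (p.1 : E n) * R i = Perm.sign p.2 • ((R i : E n) * p.1)) ∧
    (p.1 : E n) * D = Perm.sign p.2 • ((D : E n) * (p.1 : E n)) := Iff.rfl

/-- the lift of the transposition `(i j)` (for `i ≠ j`) -/
def t (i j : Fin n) : E n := (L i - L j) * D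

theorem t_def (i j : Fin n) : (t i j : E n) = (L i - L j) * D := rfl

theorem D_anticomm_L (i : Fin n) :
    (D : E n) * L i = -(L i * D) := by
  rw [L_anticomm_D, neg_neg]

theorem three_nsmul (x : E n) : x + x = -x := by
  refine LinearMap.ext fun f => V_ext fun u => ?_
  have : ∀ y : ZMod 3, y + y = -y := by decide
  exact this (x f u)

theorem t_mul_self {i j : Fin n} (h : i ≠ j) : (t i j : E n) * t i j = 1 := by
  have h1 : (D : E n) * (L i - L j) = -((L i - L j) * D) := by
    rw [mul_sub, D_anticomm_L, D_anticomm_L, sub_mul]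
    abel
  have h2 : (L i - L j : E n) * (L i - L j) = 1 + 1 := by
    rw [sub_mul, mul_sub, mul_sub, L_mul_self, L_mul_self, L_anticomm h]
    abel
  calc (t i j : E n) * t i j
      = (L i - L j) * (D * (L i - L j)) * D := by rw [t_def]; noncomm_ring
    _ = -(((L i - L j) * (L i - L j)) * (D * D)) := by rw [h1]; noncomm_ring
    _ = 1 := by rw [h2, D_mul_self, mul_one, three_nsmul, neg_neg]

/-- `t i j` as a unit -/
def tu (i j : Fin n) (h : i ≠ j) : (E n)ˣ :=
  ⟨t i j, t i j, t_mul_self h, t_mul_self h⟩

theorem tu_val (i j : Fin n) (h : i ≠ j) :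
    ((tu i j h : (E n)ˣ) : E n) = t i j := rfl

theorem neg_one_units_smul (x : E n) : (-1 : ℤˣ) • x = -x := by
  rw [Units.neg_smul, one_smul]

theorem tu_mem_cover (i j : Fin n) (h : i ≠ j) : ((tu i j h, swap i j) :
    (E n)ˣ × Perm (Fin n)) ∈ cover n := by
  have hR : ∀ k : Fin n, (D : E n) * R k = -(R k * D) := by
    intro k
    rw [R_anticomm_D, neg_neg]
  refine mem_cover_iff.2 ⟨fun k => ?_, fun k => ?_, ?_⟩
  · change t i j * L k = L (swap i j k) * t i j
    have e : (t i j : E n) * L k = -((L i - L j) * L k * D) := by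
      rw [t_def, mul_assoc, D_anticomm_L]
      noncomm_ring
    rw [e, t_def]
    by_cases hki : k = i
    · subst hki
      rw [swap_apply_left, sub_mul, L_mul_self, ← mul_assoc, mul_sub, L_mul_self]
      noncomm_ring
    · by_cases hkj : k = j
      · subst hkj
        rw [swap_apply_right, sub_mul, L_mul_self, ← mul_assoc, mul_sub, L_mul_self]
        noncomm_ring
      · rw [swap_apply_of_ne_of_ne hki hkj, sub_mul, ← mul_assoc, mul_sub,
          L_anticomm hki, L_anticomm hkj]
        noncomm_ring
  · change t i j * R k = Perm.sign (swap i j) • (R k * t i j)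
    rw [Perm.sign_swap h, neg_one_units_smul, t_def, mul_assoc, hR, ← mul_assoc, mul_sub,
      ← L_comm_R, ← L_comm_R]
    noncomm_ring
  · change t i j * D = Perm.sign (swap i j) • (D * t i j)
    rw [Perm.sign_swap h, neg_one_units_smul, t_def, ← mul_assoc, mul_sub, D_anticomm_L,
      D_anticomm_L, mul_assoc]
    have : (-(L i * D) - -(L j * D) : E n) = -((L i - L j) * D) := by
      noncomm_ring
    rw [this, neg_mul, neg_neg, mul_assoc]

theorem mul_t {x : (E n)ˣ} {σ : Perm (Fin n)} (h : (x, σ) ∈ cover n)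
    (i j : Fin n) : (x : E n) * t i j =
      Perm.sign σ • (t (σ i) (σ j) * x) := by
  obtain ⟨h1, -, h3⟩ := mem_cover_iff.1 h
  simp only at h1 h3
  rw [t_def, ← mul_assoc, mul_sub, h1, h1, ← sub_mul, mul_assoc, h3, mul_smul_comm, ← mul_assoc,
    ← t_def]

/-- The projection of the double cover onto the symmetric group. -/
def proj (n : ℕ) : cover n →* Perm (Fin n) := (MonoidHom.snd _ _).comp (cover n).subtype

theorem proj_apply (x : cover n) : proj n x = (x : (E n)ˣ × _).2 := rfl

theorem proj_surjective : Function.Surjective (proj n) := by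
  rw [← MonoidHom.range_eq_top, eq_top_iff, ← Perm.closure_isSwap, Subgroup.closure_le]
  rintro σ ⟨i, j, hij, rfl⟩
  exact ⟨⟨_, tu_mem_cover i j hij⟩, rfl⟩

theorem one_ne_neg_one : (1 : E n) ≠ -1 := by
  intro h
  have h1 := congrArg (fun x : E n => x (fun _ => 1) 0) h
  have : (1 : ZMod 3) ≠ -1 := by decide
  exact this h1

/-- The central element of order two. -/
def zz (n : ℕ) : cover n := ⟨(-1, 1), mem_cover_iff.2 (by
  refine ⟨fun i => ?_, fun i => ?_, ?_⟩
  · simp only [Units.val_neg, Units.val_one, Perm.one_apply]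
    noncomm_ring
  · simp only [Units.val_neg, Units.val_one, map_one, one_smul]
    noncomm_ring
  · simp only [Units.val_neg, Units.val_one, map_one, one_smul]
    noncomm_ring)⟩

theorem zz_val : (zz n : (E n)ˣ × Perm (Fin n)) = (-1, 1) := rfl

theorem zz_mul_self : zz n * zz n = 1 := by
  refine Subtype.ext ?_
  rw [Subgroup.coe_mul, zz_val, Prod.mk_mul_mk, Subgroup.coe_one, mul_one]
  refine Prod.ext ?_ rfl
  change (-1 : (E n)ˣ) * (-1) = 1
  rw [neg_mul_neg, one_mul]

theorem zz_ne_one : zz n ≠ 1 := by
  intro h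
  have h1 := congrArg (fun x : cover n => (((x : (E n)ˣ × Perm (Fin n)).1 :
    (E n)ˣ) : E n)) h
  exact one_ne_neg_one h1.symm

theorem zz_comm (x : cover n) : x * zz n = zz n * x := by
  refine Subtype.ext ?_
  rw [Subgroup.coe_mul, Subgroup.coe_mul, zz_val]
  refine Prod.ext ?_ ?_
  · change (x : (E n)ˣ × Perm (Fin n)).1 * (-1) = (-1) * (x : (E n)ˣ × Perm (Fin n)).1
    rw [mul_neg, neg_mul, one_mul, mul_one]
  · change (x : (E n)ˣ × Perm (Fin n)).2 * 1 = 1 * (x : (E n)ˣ × Perm (Fin n)).2
    rw [one_mul, mul_one]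

/-- The kernel of the projection consists of `1` and `zz`. -/
theorem eq_one_or_eq_zz_of_proj_eq_one {x : cover n} (h : proj n x = 1) : x = 1 ∨ x = zz n := by
  obtain ⟨⟨y, σ⟩, hx⟩ := x
  have hσ : σ = 1 := h
  subst hσ
  obtain ⟨h1, h2, h3⟩ := mem_cover_iff.1 hx
  simp only [Perm.one_apply, map_one, one_smul] at h1 h2 h3
  obtain ⟨c, hc⟩ := exists_smul_one_of_commute h1 h2 h3
  have hc' : c = 0 ∨ c = 1 ∨ c = -1 := by
    have : ∀ c : ZMod 3, c = 0 ∨ c = 1 ∨ c = -1 := by decide
    exact this c
  rcases hc' with rfl | rfl | rfl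
  · exfalso
    have h4 : (y : E n) * ((y⁻¹ : (E n)ˣ) :
      E n) = 1 := Units.mul_inv y
    rw [hc, zero_smul, zero_mul] at h4
    have h5 := congrArg (fun x : E n => x (fun _ => 1) 0) h4
    have : (0 : ZMod 3) ≠ 1 := by decide
    exact this h5
  · left
    refine Subtype.ext (Prod.ext (Units.ext ?_) rfl)
    change (y : E n) = 1
    rw [hc, one_smul]
  · right
    refine Subtype.ext (Prod.ext (Units.ext ?_) rfl)
    change (y : E n) = -1
    rw [hc, neg_smul, one_smul]

end Cfsg.Agent.CharactersDeep.DoubleCover
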