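import Mathlib
import Cfsg.Prelude.Def_Characters
set_option linter.all false

/-!
A uniform power map for `π`-parts: if `|G| ∣ m * n` with `m`, `n` coprime and `e ≡ 1 (mod m)`,
`e ≡ 0 (mod n)` then `g ↦ g ^ e` is the map to the `π(m)`-part.  On elementary groups it is a
homomorphism.
-/

set_option autoImplicit false

namespace Cfsg.Agent.CharactersDeep.PiPart

/-- the exponent -/
theorem exists_exponent {m n : ℕ} (hmn : m.Coprime n) :
    ∃ e : ℕ, e ≡ 1 [MOD m] ∧ e ≡ 0 [MOD n] :=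
  ⟨(Nat.chineseRemainder hmn 1 0).1, (Nat.chineseRemainder hmn 1 0).2⟩

section

variable {G : Type*} [Group G] {m n e : ℕ}

theorem pow_eq_self (he1 : e ≡ 1 [MOD m]) {g : G} (hg : g ^ m = 1) : g ^ e = g := by
  have h1 : orderOf g ∣ m := orderOf_dvd_of_pow_eq_one hg
  have h2 : g ^ e = g ^ 1 := pow_eq_pow_iff_modEq.2 (he1.of_dvd h1)
  rwa [pow_one] at h2

theorem pow_eq_one (he0 : e ≡ 0 [MOD n]) {g : G} (hg : g ^ n = 1) : g ^ e = 1 := by
  have h1 : orderOf g ∣ n := orderOf_dvd_of_pow_eq_one hg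
  have h2 : g ^ e = g ^ 0 := pow_eq_pow_iff_modEq.2 (he0.of_dvd h1)
  rwa [pow_zero] at h2

theorem pow_pow_eq_one (he0 : e ≡ 0 [MOD n]) (hcard : Nat.card G ∣ m * n) (g : G) :
    (g ^ e) ^ m = 1 := by
  have h1 : n ∣ e := (Nat.modEq_zero_iff_dvd).1 he0
  obtain ⟨k, rfl⟩ := h1
  obtain ⟨l, hl⟩ := hcard
  rw [← pow_mul, show n * k * m = m * n * k by ring, hl, mul_assoc, pow_mul, pow_card_eq_one',
    one_pow]

theorem pow_conj (x g : G) (e : ℕ) : (x * g * x⁻¹) ^ e = x * g ^ e * x⁻¹ := conj_pow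

/-- on an elementary group the map `x ↦ x ^ e` is multiplicative -/
theorem mul_pow_of_elementary [Finite G] {p : ℕ} (hp : p.Prime) (hE : Cfsg.IsElementary p G)
    (hmn : m.Coprime n) (hcard : Nat.card G ∣ m * n) (he1 : e ≡ 1 [MOD m])
    (he0 : e ≡ 0 [MOD n]) (x y : G) : (x * y) ^ e = x ^ e * y ^ e := by
  obtain ⟨c, hc, hcop, k, hk⟩ := hE
  have hcomm : ∀ z ∈ Subgroup.zpowers c, ∀ g : G, z * g = g * z := by
    intro z hz g
    have hz' : z ∈ Subgroup.center G := (Subgroup.zpowers_le.2 hc) hz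
    exact (Subgroup.mem_center_iff.1 hz' g).symm
  have hnorm : (Subgroup.zpowers c).Normal := by
    constructor
    intro z hz g
    rw [← hcomm z hz g, mul_assoc, mul_inv_cancel, mul_one]
    exact hz
  have hcop' : Nat.Coprime (Nat.card (Subgroup.zpowers c)) (Subgroup.zpowers c).index := by
    rw [hk, Nat.card_zpowers]
    exact Nat.Coprime.pow_right k hcop
  obtain ⟨P, hP⟩ := Subgroup.exists_right_complement'_of_coprime hcop'
  have hPcard : Nat.card P = p ^ k := by
    rw [← hk, ← hP.symm.index_eq_card]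
  -- on `P` the map is the identity or trivial
  have hPe : (∀ a ∈ P, a ^ e = a) ∨ (∀ a ∈ P, a ^ e = 1) := by
    have hdvd : p ^ k ∣ m * n := by
      rw [← hPcard]
      exact (Subgroup.card_subgroup_dvd_card P).trans hcard
    by_cases hpm : p ∣ m
    · left
      intro a ha
      have hpn : Nat.Coprime (p ^ k) n := by
        apply Nat.Coprime.pow_left
        exact Nat.Coprime.coprime_dvd_left hpm hmn
      have h1 : p ^ k ∣ m := hpn.dvd_of_dvd_mul_right hdvd
      apply pow_eq_self he1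
      obtain ⟨l, hl⟩ := h1
      rw [hl, pow_mul, ← hPcard]
      have h2 : (⟨a, ha⟩ : P) ^ (Nat.card P) = 1 := pow_card_eq_one'
      have h3 : a ^ (Nat.card P) = 1 := congrArg Subtype.val h2
      rw [h3, one_pow]
    · right
      intro a ha
      have hpn : Nat.Coprime (p ^ k) m := by
        apply Nat.Coprime.pow_left
        exact (Nat.Prime.coprime_iff_not_dvd hp).2 hpm
      have h1 : p ^ k ∣ n := hpn.dvd_of_dvd_mul_left hdvd
      apply pow_eq_one he0
      obtain ⟨l, hl⟩ := h1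
      rw [hl, pow_mul, ← hPcard]
      have h2 : (⟨a, ha⟩ : P) ^ (Nat.card P) = 1 := pow_card_eq_one'
      have h3 : a ^ (Nat.card P) = 1 := congrArg Subtype.val h2
      rw [h3, one_pow]
  have hPmul : ∀ a ∈ P, ∀ b ∈ P, (a * b) ^ e = a ^ e * b ^ e := by
    rcases hPe with h | h
    · intro a ha b hb
      rw [h a ha, h b hb, h _ (P.mul_mem ha hb)]
    · intro a ha b hb
      rw [h a ha, h b hb, h _ (P.mul_mem ha hb), one_mul]
  -- decompose
  obtain ⟨⟨c1, a1⟩, h1⟩ := hP.2 x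
  obtain ⟨⟨c2, a2⟩, h2⟩ := hP.2 y
  have h1' : (c1 : G) * (a1 : G) = x := h1
  have h2' : (c2 : G) * (a2 : G) = y := h2
  rw [← h1', ← h2']
  have hc1 : ∀ g : G, Commute (c1 : G) g := fun g => hcomm _ c1.2 g
  have hc2 : ∀ g : G, Commute (c2 : G) g := fun g => hcomm _ c2.2 g
  have h3 : (c1 : G) * a1 * (c2 * a2) = (c1 * c2) * (a1 * a2) := by
    rw [mul_assoc, ← mul_assoc (a1 : G), ← (hc2 (a1 : G)).eq]
    simp only [mul_assoc]
  have hc12 : ∀ g : G, Commute ((c1 : G) * c2) g := fun g => (hc1 g).mul_left (hc2 g)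
  rw [h3, (hc12 _).mul_pow, (hc1 _).mul_pow, (hc1 _).mul_pow, (hc2 _).mul_pow,
    hPmul _ a1.2 _ a2.2]
  have hc2e : Commute ((c2 : G) ^ e) ((a1 : G) ^ e) := (hc2 _).pow_left e
  rw [mul_assoc, mul_assoc, ← mul_assoc ((c2 : G) ^ e) ((a1 : G) ^ e), hc2e.eq]
  simp only [mul_assoc]

/-- the power homomorphism on an elementary group -/
noncomputable def powHom [Finite G] {p : ℕ} (hp : p.Prime) (hE : Cfsg.IsElementary p G)
    (hmn : m.Coprime n) (hcard : Nat.card G ∣ m * n) (he1 : e ≡ 1 [MOD m])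
    (he0 : e ≡ 0 [MOD n]) : G →* G where
  toFun x := x ^ e
  map_one' := one_pow e
  map_mul' x y := mul_pow_of_elementary hp hE hmn hcard he1 he0 x y

@[simp]
theorem powHom_apply [Finite G] {p : ℕ} (hp : p.Prime) (hE : Cfsg.IsElementary p G)
    (hmn : m.Coprime n) (hcard : Nat.card G ∣ m * n) (he1 : e ≡ 1 [MOD m])
    (he0 : e ≡ 0 [MOD n]) (x : G) : powHom hp hE hmn hcard he1 he0 x = x ^ e := rfl

/-- a surjective image of an elementary group is elementary -/
theorem isElementary_of_surjective [Finite G] {G' : Type*} [Group G'] {p : ℕ} (hp : p.Prime)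
    (hE : Cfsg.IsElementary p G) (f : G →* G') (hf : Function.Surjective f) :
    Cfsg.IsElementary p G' := by
  obtain ⟨c, hc, hcop, k, hk⟩ := hE
  refine ⟨f c, ?_, ?_, ?_⟩
  · rw [Subgroup.mem_center_iff]
    intro g
    obtain ⟨x, rfl⟩ := hf g
    rw [← map_mul, ← map_mul, Subgroup.mem_center_iff.1 hc x]
  · exact Nat.Coprime.coprime_dvd_left (orderOf_map_dvd f c) hcop
  · have h1 : (Subgroup.zpowers (f c)).index ∣ p ^ k := by
      rw [← hk, ← MonoidHom.map_zpowers]
      exact Subgroup.index_map_dvd _ hf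
    obtain ⟨j, -, hj⟩ := (Nat.dvd_prime_pow hp).1 h1
    exact ⟨j, hj⟩

/-- a cyclic group is elementary for every prime not dividing its order -/
theorem isElementary_zpowers (g : G) {p : ℕ} (hcop : Nat.Coprime (orderOf g) p) :
    Cfsg.IsElementary p (Subgroup.zpowers g) := by
  refine ⟨⟨g, Subgroup.mem_zpowers g⟩, ?_, ?_, 0, ?_⟩
  · rw [Subgroup.mem_center_iff]
    rintro ⟨x, hx⟩
    obtain ⟨k, rfl⟩ := Subgroup.mem_zpowers_iff.1 hx
    apply Subtype.ext
    exact ((Commute.refl g).zpow_left k).eq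
  · rwa [Subgroup.orderOf_mk]
  · rw [pow_zero, Subgroup.index_eq_one, eq_top_iff]
    rintro ⟨x, hx⟩ -
    obtain ⟨k, rfl⟩ := Subgroup.mem_zpowers_iff.1 hx
    rw [Subgroup.mem_zpowers_iff]
    refine ⟨k, Subtype.ext ?_⟩
    rfl

/-- a finite group all of whose elements satisfy `x ^ m = 1`, of order dividing `m * n` with
`m`, `n` coprime, has order dividing `m` -/
theorem card_dvd_of_forall_pow [Finite G] (hmn : m.Coprime n) (hcard : Nat.card G ∣ m * n)
    (h : ∀ x : G, x ^ m = 1) : Nat.card G ∣ m := by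
  have hcop : Nat.Coprime (Nat.card G) n := by
    apply Nat.coprime_of_dvd
    intro q hq hqG hqn
    have := Fact.mk hq
    obtain ⟨x, hx⟩ := exists_prime_orderOf_dvd_card' q hqG
    have h1 : q ∣ m := by
      rw [← hx]
      exact orderOf_dvd_of_pow_eq_one (h x)
    have h2 : q ∣ Nat.gcd m n := Nat.dvd_gcd h1 hqn
    rw [hmn.gcd_eq_one] at h2
    exact hq.one_lt.ne' (Nat.dvd_one.1 h2)
  exact hcop.dvd_of_dvd_mul_right hcard

end

end Cfsg.Agent.CharactersDeep.PiPart
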