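import Mathlib.RepresentationTheory.Character
import Mathlib.Analysis.Complex.Basic
import Mathlib.GroupTheory.Index
import Mathlib.GroupTheory.Transfer
import Mathlib.LinearAlgebra.Matrix.Determinant.Basic
import Mathlib.LinearAlgebra.Determinant
import Cfsg.Prelude.Def_Characters
set_option linter.all false

/-!
# Linear characters and homomorphisms to the units of the complex numbers

* `exists_hom_of_isCharacter` : a character of degree one is given by a homomorphism `G →* ℂˣ`.
* `isCharacter_of_hom` : a homomorphism `G →* ℂˣ` gives a character of degree one.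
* `transfer_apply_of_mem_normal` : the transfer of a homomorphism on `H` evaluated at an element of a
  normal subgroup `N ≤ H` is the product over the cosets of the conjugates.
* `transfer_apply_of_invariant` : if moreover the homomorphism is `G`-invariant on `N`, then the
  transfer restricted to `N` is the power with exponent the index of `H`.
-/

set_option autoImplicit false

namespace Cfsg.Agent.CharactersDeep.LinearExt

universe u v

/-- A character of degree one is given by a homomorphism to the units. -/
theorem exists_hom_of_isCharacter {G : Type u} [Group G] {χ : G → ℂ}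
    (h : Cfsg.IsCharacter G χ) (h1 : χ 1 = 1) :
    ∃ φ : G →* ℂˣ, ∀ g, (φ g : ℂ) = χ g := by
  obtain ⟨n, ρ, rfl⟩ := h
  have hn : n = 1 := by
    have h2 : ρ.character 1 = (n : ℂ) := by
      rw [Representation.char_one]; simp
    rw [h2] at h1
    exact_mod_cast h1
  subst hn
  have key : ∀ g, ρ.character g = LinearMap.det (ρ g) := by
    intro g
    have h3 : ρ.character g = LinearMap.trace ℂ (Fin 1 → ℂ) (ρ g) := rfl
    rw [h3, LinearMap.trace_eq_matrix_trace ℂ (Pi.basisFun ℂ (Fin 1)),
      ← LinearMap.det_toMatrix (Pi.basisFun ℂ (Fin 1)), Matrix.trace_fin_one,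
      Matrix.det_fin_one]
  refine ⟨MonoidHom.toHomUnits ((LinearMap.det : ((Fin 1 → ℂ) →ₗ[ℂ] (Fin 1 → ℂ)) →* ℂ).comp ρ), ?_⟩
  intro g
  rw [key]
  rfl

/-- A homomorphism to the units gives a character of degree one. -/
theorem isCharacter_of_hom {G : Type u} [Group G] (φ : G →* ℂˣ) :
    Cfsg.IsCharacter G (fun g => (φ g : ℂ)) := by
  refine ⟨1, { toFun := fun g => (φ g : ℂ) • LinearMap.id, map_one' := ?_, map_mul' := ?_ }, ?_⟩
  · ext; simp
  · intro a b
    ext
    simp
    ring
  · funext g
    have h3 : ∀ ρ : Representation ℂ G (Fin 1 → ℂ),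
      ρ.character g = LinearMap.trace ℂ (Fin 1 → ℂ) (ρ g) := fun _ => rfl
    rw [h3]
    simp

/-- The transfer of a homomorphism on `H`, evaluated at an element of a normal subgroup `N ≤ H`. -/
theorem transfer_apply_of_mem_normal {G : Type u} [Group G] {A : Type v} [CommGroup A]
    (N H : Subgroup G) [hN : N.Normal] (hNH : N ≤ H) [H.FiniteIndex] (ϕ : H →* A) (n : G)
    (hn : n ∈ N) (T : H.LeftTransversal) :
    letI := H.fintypeQuotientOfFiniteIndex
    MonoidHom.transfer ϕ n = ∏ q : G ⧸ H, ϕ ⟨(T.2.leftQuotientEquiv q : G)⁻¹ * n *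
      (T.2.leftQuotientEquiv q : G), by
        have := hN.conj_mem n hn (T.2.leftQuotientEquiv q : G)⁻¹
        rw [inv_inv] at this
        exact hNH this⟩ := by
  let _ := H.fintypeQuotientOfFiniteIndex
  have hfix : ∀ q : G ⧸ H, n⁻¹ • q = q := by
    intro q
    induction q using QuotientGroup.induction_on with
    | H x =>
      change ((n⁻¹ * x : G) : G ⧸ H) = (x : G ⧸ H)
      rw [QuotientGroup.eq]
      have := hN.conj_mem n hn x⁻¹
      rw [inv_inv] at this
      have h2 : (n⁻¹ * x)⁻¹ * x = x⁻¹ * n * x := by group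
      rw [h2]
      exact hNH this
  rw [MonoidHom.transfer_def ϕ T n]
  delta Subgroup.leftTransversals.diff
  refine Fintype.prod_congr _ _ (fun q => ?_)
  congr 1
  apply Subtype.ext
  simp only [Subgroup.smul_apply_eq_smul_apply_inv_smul, hfix, smul_eq_mul, mul_assoc]

/-- If the homomorphism is invariant on the normal subgroup `N`, the transfer on `N` is the power
with exponent the index of `H`. -/
theorem transfer_apply_of_invariant {G : Type u} [Group G] {A : Type v} [CommGroup A]
    (N H : Subgroup G) [hN : N.Normal] (hNH : N ≤ H) [H.FiniteIndex] (ϕ : H →* A)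
    (hinv : ∀ (g n : G) (hn : n ∈ N) (hgn : g * n * g⁻¹ ∈ N),
      ϕ ⟨g * n * g⁻¹, hNH hgn⟩ = ϕ ⟨n, hNH hn⟩) (n : G) (hn : n ∈ N) :
    MonoidHom.transfer ϕ n = ϕ ⟨n, hNH hn⟩ ^ H.index := by
  let _ := H.fintypeQuotientOfFiniteIndex
  rw [transfer_apply_of_mem_normal N H hNH ϕ n hn default]
  rw [Subgroup.index_eq_card, Nat.card_eq_fintype_card, Fintype.card, ← Finset.prod_const]
  refine Finset.prod_congr rfl (fun q _ => ?_)
  set t : G := (((default : H.LeftTransversal).2.leftQuotientEquiv q : _) : G) with ht
  have hmem := hN.conj_mem n hn t⁻¹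
  have h2 := hinv t⁻¹ n hn hmem
  rw [← h2]
  congr 1
  apply Subtype.ext
  simp

end Cfsg.Agent.CharactersDeep.LinearExt
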