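import Mathlib
import Cfsg.Prelude.Def_Characters
import Cfsg.Agent.Characters.Core
set_option linter.all false

/-!
# Basic facts on induced functions `Cfsg.indFun`

* values of `extendByZero`;
* `indFun` is additive, homogeneous, a class function;
* projection formula `indFun_mul`;
* Frobenius reciprocity `classInner_indFun`;
* the function induced from a character is a character `isCharacter_indFun`.
-/

set_option autoImplicit false

open Cfsg
open scoped ComplexConjugate

namespace Cfsg.Agent.CharactersDeep.IndFun

universe u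

variable {G : Type u} [Group G]

theorem extendByZero_mem (H : Subgroup G) (θ : H → ℂ) {g : G} (hg : g ∈ H) :
    extendByZero H θ g = θ ⟨g, hg⟩ :=
  Subtype.val_injective.extend_apply θ 0 ⟨g, hg⟩

theorem extendByZero_notMem (H : Subgroup G) (θ : H → ℂ) {g : G} (hg : g ∉ H) :
    extendByZero H θ g = 0 := by
  unfold extendByZero
  rw [Function.extend_apply']
  · rfl
  · rintro ⟨a, rfl⟩
    exact hg a.2

theorem extendByZero_add (H : Subgroup G) (θ η : H → ℂ) :
    extendByZero H (θ + η) = extendByZero H θ + extendByZero H η := by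
  funext g
  by_cases hg : g ∈ H
  · simp [extendByZero_mem _ _ hg]
  · simp [extendByZero_notMem _ _ hg]

theorem extendByZero_smul (H : Subgroup G) (c : ℂ) (θ : H → ℂ) :
    extendByZero H (c • θ) = c • extendByZero H θ := by
  funext g
  by_cases hg : g ∈ H
  · simp [extendByZero_mem _ _ hg]
  · simp [extendByZero_notMem _ _ hg]

theorem extendByZero_zero (H : Subgroup G) : extendByZero H (0 : H → ℂ) = 0 := by
  funext g
  by_cases hg : g ∈ H
  · simp [extendByZero_mem _ _ hg]
  · simp [extendByZero_notMem _ _ hg]

/-- Sum over the group of an extension by zero. -/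
theorem sum_extendByZero [Fintype G] (H : Subgroup G) [Fintype H] (θ : H → ℂ) (F : G → ℂ) :
    ∑ g : G, extendByZero H θ g * F g = ∑ h : H, θ h * F h := by
  classical
  have h1 : ∑ h : H, θ h * F h = ∑ h : H, extendByZero H θ (h : G) * F h :=
    Finset.sum_congr rfl fun h _ => by rw [extendByZero_mem H θ h.2]
  have h2 : ∑ g : {x : G // x ∈ H}, extendByZero H θ (g : G) * F g =
      ∑ g ∈ Finset.univ.filter (fun g => g ∈ H), extendByZero H θ g * F g :=
    (Finset.sum_subtype (Finset.univ.filter fun g => g ∈ H) (fun g => by simp)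
      (fun g => extendByZero H θ g * F g)).symm
  rw [h1]
  refine Eq.trans ?_ h2.symm
  refine (Finset.sum_subset (Finset.subset_univ _) ?_).symm
  intro g _ hg
  rw [extendByZero_notMem H θ (by simpa using hg), zero_mul]

variable [Fintype G]

theorem indFun_def (H : Subgroup G) (θ : H → ℂ) (g : G) :
    indFun H θ g = (Nat.card H : ℂ)⁻¹ * ∑ x : G, extendByZero H θ (x⁻¹ * g * x) := rfl

theorem indFun_add (H : Subgroup G) (θ η : H → ℂ) :
    indFun H (θ + η) = indFun H θ + indFun H η := by
  funext g
  simp [indFun_def, extendByZero_add, Finset.sum_add_distrib, mul_add]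

theorem indFun_smul (H : Subgroup G) (c : ℂ) (θ : H → ℂ) :
    indFun H (c • θ) = c • indFun H θ := by
  funext g
  simp only [indFun_def, extendByZero_smul, Pi.smul_apply, smul_eq_mul, ← Finset.mul_sum]
  ring

theorem indFun_zero (H : Subgroup G) : indFun H (0 : H → ℂ) = 0 := by
  funext g
  simp [indFun_def, extendByZero_zero]

/-- `indFun` as a linear map. -/
noncomputable def indLin (H : Subgroup G) : (H → ℂ) →ₗ[ℂ] (G → ℂ) where
  toFun := indFun H
  map_add' := indFun_add H
  map_smul' := indFun_smul H

theorem indLin_apply (H : Subgroup G) (θ : H → ℂ) : indLin H θ = indFun H θ := rfl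

theorem indFun_neg (H : Subgroup G) (θ : H → ℂ) : indFun H (-θ) = -indFun H θ :=
  map_neg (indLin H) θ

theorem indFun_sub (H : Subgroup G) (θ η : H → ℂ) :
    indFun H (θ - η) = indFun H θ - indFun H η :=
  map_sub (indLin H) θ η

theorem indFun_sum (H : Subgroup G) {ι : Type*} (s : Finset ι) (f : ι → H → ℂ) :
    indFun H (∑ i ∈ s, f i) = ∑ i ∈ s, indFun H (f i) :=
  map_sum (indLin H) f s

/-- An induced function is a class function. -/
theorem isClassFunction_indFun (H : Subgroup G) (θ : H → ℂ) :
    IsClassFunction G (indFun H θ) := by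
  intro g h
  rw [indFun_def, indFun_def]
  congr 1
  refine Fintype.sum_equiv (Equiv.mulLeft h⁻¹) _ _ fun x => ?_
  congr 1
  simp only [Equiv.coe_mulLeft]
  group

/-- Projection formula. -/
theorem indFun_mul (H : Subgroup G) (θ : H → ℂ) (χ : G → ℂ) (hχ : IsClassFunction G χ) :
    indFun H θ * χ = indFun H (fun h => θ h * χ h) := by
  funext g
  rw [Pi.mul_apply, indFun_def, indFun_def, mul_assoc, Finset.sum_mul]
  congr 1
  refine Finset.sum_congr rfl fun x _ => ?_
  have h1 : χ g = χ (x⁻¹ * g * x) := by
    have := hχ g x⁻¹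
    rw [inv_inv] at this
    exact this.symm
  by_cases hg : x⁻¹ * g * x ∈ H
  · rw [extendByZero_mem _ _ hg, extendByZero_mem _ _ hg, h1]
  · rw [extendByZero_notMem _ _ hg, extendByZero_notMem _ _ hg, zero_mul]

/-- Frobenius reciprocity. -/
theorem classInner_indFun (H : Subgroup G) [Fintype H] (θ : H → ℂ) (χ : G → ℂ)
    (hχ : IsClassFunction G χ) :
    classInner (indFun H θ) χ = classInner θ (fun h : H => χ h) := by
  unfold classInner
  have h1 : ∀ g : G, indFun H θ g * conj (χ g) =
      (Nat.card H : ℂ)⁻¹ * ∑ x : G, extendByZero H θ (x⁻¹ * g * x) * conj (χ (x⁻¹ * g * x)) := by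
    intro g
    rw [indFun_def, mul_assoc, Finset.sum_mul]
    congr 1
    refine Finset.sum_congr rfl fun x _ => ?_
    have := hχ g x⁻¹
    rw [inv_inv] at this
    rw [this]
  simp_rw [h1]
  rw [← Finset.mul_sum, Finset.sum_comm]
  have h2 : ∀ x : G, ∑ g : G, extendByZero H θ (x⁻¹ * g * x) * conj (χ (x⁻¹ * g * x)) =
      ∑ h : H, θ h * conj (χ h) := by
    intro x
    rw [← sum_extendByZero H θ (fun g => conj (χ g))]
    refine Fintype.sum_equiv (MulAut.conj x⁻¹).toEquiv _ _ fun g => ?_
    simp
  simp_rw [h2]
  rw [Finset.sum_const, Finset.card_univ, nsmul_eq_mul, Nat.card_eq_fintype_card (α := G)]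
  have : (Fintype.card G : ℂ) ≠ 0 := by exact_mod_cast Fintype.card_ne_zero
  field_simp

/-- The function induced from a character is a character. -/
theorem isCharacter_indFun (H : Subgroup G) {θ : H → ℂ} (hθ : IsCharacter H θ) :
    IsCharacter G (indFun H θ) := by
  classical
  have : Finite (IrrCharacter G) := Characters.Core.finite_irr
  have : Fintype (IrrCharacter G) := Fintype.ofFinite _
  have : Fintype H := Fintype.ofFinite _
  rw [Characters.Core.isCharacter_iff]
  have h1 : ∀ ψ : IrrCharacter G, ∃ n : ℕ, classInner (indFun H θ) (ψ : G → ℂ) = n := by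
    intro ψ
    have hψ := Characters.Core.isIrr_isCharacter ψ.2
    rw [classInner_indFun H θ _ (Characters.Core.isCharacter_isClassFunction hψ)]
    exact Characters.Core.classInner_isNat hθ (Characters.Core.isCharacter_comp H.subtype hψ)
  choose m hm using h1
  refine ⟨m, ?_⟩
  conv_lhs => rw [Characters.Core.classFunction_eq_sum (isClassFunction_indFun H θ)]
  refine Finset.sum_congr rfl fun ψ _ => ?_
  rw [hm ψ, Nat.cast_smul_eq_nsmul]

end Cfsg.Agent.CharactersDeep.IndFun
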