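import Mathlib
set_option linter.all false

set_option autoImplicit false

/-!
# Traces of powers of operators of finite order

* `exists_eigen_decomp`: for a finite-order operator `f` on a finite-dimensional complex space there
  is a finite set of roots of unity `z` with multiplicities `m z` with
  `trace (f ^ j) = ∑ z, m z * z ^ j` for all `j`.
* `isIntegral_trace_of_pow_succ_eq`: if `f ^ (n + 1) = f` with `0 < n`, then the trace is an
  algebraic integer.
* `isIntegral_average`: for a finite subgroup `P` centralised by `r`, the average of the character over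
  the coset `r P` is an algebraic integer.
-/

namespace Cfsg.Agent.CharactersDeep.TracePow

open Module

/-- Power sums of the eigenvalues of an operator of finite order. -/
theorem exists_eigen_decomp {V : Type*} [AddCommGroup V] [Module ℂ V] [FiniteDimensional ℂ V]
    (f : End ℂ V) (n : ℕ) (hn : n ≠ 0) (hf : f ^ n = 1) :
    ∃ (s : Finset ℂ) (m : ℂ → ℕ), (∀ z ∈ s, z ^ n = 1) ∧
      ∀ j : ℕ, LinearMap.trace ℂ V (f ^ j) = ∑ z ∈ s, (m z : ℂ) * z ^ j := by
  classical
  have hss : f.IsSemisimple := by
    refine Module.End.isSemisimple_of_squarefree_aeval_eq_zero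
      (p := Polynomial.X ^ n - Polynomial.C 1) ?_ ?_
    · exact (Polynomial.separable_X_pow_sub_C (1 : ℂ) (by exact_mod_cast hn)
        one_ne_zero).squarefree
    · simp [hf]
  have htop : ⨆ μ, f.eigenspace μ = ⊤ := by
    rw [← Module.End.iSup_maxGenEigenspace_eq_top f]
    exact iSup_congr fun μ =>
      (hss.isFinitelySemisimple.maxGenEigenspace_eq_eigenspace μ).symm
  have hint : DirectSum.IsInternal f.eigenspace :=
    DirectSum.isInternal_submodule_of_iSupIndep_of_iSup_eq_top f.eigenspaces_iSupIndep htop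
  have hfin : {μ | f.eigenspace μ ≠ ⊥}.Finite :=
    WellFoundedGT.finite_ne_bot_of_iSupIndep f.eigenspaces_iSupIndep
  have hpow : ∀ (μ : ℂ) (j : ℕ) (v : V), v ∈ f.eigenspace μ → (f ^ j) v = μ ^ j • v := by
    intro μ j v hv
    induction j with
    | zero => simp
    | succ j ih =>
      rw [pow_succ', Module.End.mul_apply, ih, map_smul, Module.End.mem_eigenspace_iff.1 hv,
        smul_smul, pow_succ]
  refine ⟨hfin.toFinset, fun μ => finrank ℂ (f.eigenspace μ), ?_, ?_⟩
  · intro z hz
    have hz' : f.eigenspace z ≠ ⊥ := by simpa using hz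
    obtain ⟨v, hv, hv0⟩ := (Submodule.ne_bot_iff _).1 hz'
    have h1 := hpow z n v hv
    rw [hf, Module.End.one_apply] at h1
    have h2 : (z ^ n - 1) • v = 0 := by rw [sub_smul, one_smul, ← h1, sub_self]
    rcases smul_eq_zero.1 h2 with h | h
    · exact sub_eq_zero.1 h
    · exact absurd h hv0
  · intro j
    have hmaps : ∀ μ : ℂ, Set.MapsTo (f ^ j : End ℂ V) (f.eigenspace μ) (f.eigenspace μ) := by
      intro μ v hv
      have := hpow μ j v hv
      rw [SetLike.mem_coe] at hv ⊢
      rw [this]
      exact Submodule.smul_mem _ _ hv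
    rw [LinearMap.trace_eq_sum_trace_restrict' hint hfin hmaps]
    refine Finset.sum_congr rfl fun z _ => ?_
    have : (f ^ j : End ℂ V).restrict (hmaps z) = z ^ j • (LinearMap.id) := by
      ext v
      exact hpow z j v v.2
    rw [this, map_smul, LinearMap.trace_id, smul_eq_mul, mul_comm]

/-- The trace of an operator with `f ^ (n + 1) = f` is an algebraic integer. -/
theorem isIntegral_trace_of_pow_succ_eq {V : Type*} [AddCommGroup V] [Module ℂ V]
    [FiniteDimensional ℂ V] (f : End ℂ V) (n : ℕ) (hn : n ≠ 0) (hf : f ^ (n + 1) = f) :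
    IsIntegral ℤ (LinearMap.trace ℂ V f) := by
  rw [Module.End.trace_eq_sum_roots_charpoly_of_splits (IsAlgClosed.splits _)]
  refine IsIntegral.multiset_sum fun z hz => ?_
  have hroot : f.charpoly.IsRoot z := (Polynomial.mem_roots'.1 hz).2
  rw [← Module.End.hasEigenvalue_iff_isRoot_charpoly] at hroot
  obtain ⟨v, hv⟩ := hroot.exists_hasEigenvector
  have h1 : (f ^ (n + 1)) v = z ^ (n + 1) • v := hv.pow_apply (n + 1)
  have h1' : f v = z • v := by simpa using hv.pow_apply 1
  rw [hf, h1'] at h1
  have h2 : (z ^ (n + 1) - z) • v = 0 := by rw [sub_smul, ← h1, sub_self]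
  rcases smul_eq_zero.1 h2 with h | h
  · have h3 : z * (z ^ n - 1) = 0 := by rw [← h]; ring
    rcases mul_eq_zero.1 h3 with h4 | h4
    · rw [h4]; exact isIntegral_zero
    · refine IsIntegral.of_pow (Nat.pos_of_ne_zero hn) ?_
      rw [sub_eq_zero.1 h4]
      exact isIntegral_one
  · exact absurd h hv.2

/-- The average of a character over a coset `r P`, where `r` has finite order and centralises the
finite subgroup `P`, is an algebraic integer. -/
theorem isIntegral_average {G : Type*} [Group G] {V : Type*} [AddCommGroup V] [Module ℂ V]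
    [FiniteDimensional ℂ V] (ρ : Representation ℂ G V) (P : Subgroup G) [Fintype P] (r : G)
    (hr : ∀ u ∈ P, u * r = r * u) (n : ℕ) (hn : n ≠ 0) (hrn : r ^ n = 1) :
    IsIntegral ℤ ((Fintype.card P : ℂ)⁻¹ * ∑ u : P, ρ.character (r * u)) := by
  classical
  have hP : (Fintype.card P : ℂ) ≠ 0 := by
    exact_mod_cast Fintype.card_ne_zero
  set e : End ℂ V := (Fintype.card P : ℂ)⁻¹ • ∑ u : P, ρ (u : G) with he
  have hmul : ∀ v : P, ρ (v : G) * e = e := by
    intro v
    rw [he, mul_smul_comm, Finset.mul_sum]
    congr 1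
    exact Fintype.sum_equiv (Equiv.mulLeft v) _ _ fun u => (map_mul ρ (v : G) (u : G)).symm
  have hee : e * e = e := by
    have h1 : e * e = (Fintype.card P : ℂ)⁻¹ • ∑ u : P, ρ (u : G) * e := by
      conv_lhs => rw [he]
      rw [smul_mul_assoc, Finset.sum_mul]
    rw [h1, Finset.sum_congr rfl fun u _ => hmul u, Finset.sum_const, Finset.card_univ,
      ← Nat.cast_smul_eq_nsmul ℂ, smul_smul, inv_mul_cancel₀ hP, one_smul]
  have hcomm : Commute (ρ r) e := by
    show ρ r * e = e * ρ r
    rw [he, mul_smul_comm, smul_mul_assoc, Finset.mul_sum, Finset.sum_mul]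
    congr 1
    refine Finset.sum_congr rfl fun u _ => ?_
    rw [← map_mul, ← map_mul, hr u u.2]
  have hpow : (ρ r * e) ^ (n + 1) = ρ r * e := by
    rw [hcomm.mul_pow, ← map_pow, pow_succ, hrn, one_mul]
    congr 1
    exact IsIdempotentElem.pow_succ_eq n hee
  have htr : (Fintype.card P : ℂ)⁻¹ * ∑ u : P, ρ.character (r * u)
      = LinearMap.trace ℂ V (ρ r * e) := by
    rw [he, mul_smul_comm, map_smul, smul_eq_mul, Finset.mul_sum (f := fun u : P => ρ (u : G)),
      map_sum]
    congr 1
    refine Finset.sum_congr rfl fun u _ => ?_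
    rw [← map_mul]
    rfl
  rw [htr]
  exact isIntegral_trace_of_pow_succ_eq _ n hn hpow

end Cfsg.Agent.CharactersDeep.TracePow
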