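import Mathlib
import Cfsg.Prelude.Def_Characters
import Cfsg.Agent.Characters.Core
import Cfsg.Agent.Characters.Linear
set_option linter.all false

/-!
# Linear characters of a group trivial on a normal subgroup with commutative quotient

`exists_linear_dual`: the finite set `Λ` of homomorphisms `G →* ℂˣ` that are trivial on `N`
has `[G : N]` elements, and `∑ λ ∈ Λ, λ g` is `[G : N]` on `N` and `0` off `N`.
-/

set_option autoImplicit false

open scoped ComplexConjugate
open Cfsg

namespace Cfsg.Agent.CharactersDeep.AbelianQuotient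

open Cfsg.Agent.Characters.Core Cfsg.Agent.Characters.Linear

variable {G : Type*} [Group G]

/-- Second orthogonality for a finite commutative group, in terms of `A →* ℂˣ`. -/
theorem sum_dual_apply {A : Type*} [CommGroup A] [Finite A] [Fintype (A →* ℂˣ)]
    [DecidableEq A] (a : A) :
    ∑ l : A →* ℂˣ, (l a : ℂ) = if a = 1 then (Nat.card A : ℂ) else 0 := by
  by_cases ha : a = 1
  · subst ha
    rw [if_pos rfl, ← CommGroup.card_monoidHom_of_hasEnoughRootsOfUnity A ℂ]
    simp
  · rw [if_neg ha]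
    obtain ⟨m, hm⟩ := CommGroup.exists_apply_ne_one_of_hasEnoughRootsOfUnity A ℂ ha
    have h1 : (m a : ℂ) * ∑ l : A →* ℂˣ, (l a : ℂ) = ∑ l : A →* ℂˣ, (l a : ℂ) := by
      rw [Finset.mul_sum]
      refine Fintype.sum_equiv (Equiv.mulLeft m) _ _ (fun l => ?_)
      simp
    have h2 : ((m a : ℂ) - 1) * ∑ l : A →* ℂˣ, (l a : ℂ) = 0 := by
      rw [sub_mul, h1, one_mul, sub_self]
    rcases mul_eq_zero.1 h2 with h | h
    · exfalso
      apply hm
      ext
      rw [Units.val_one]
      exact sub_eq_zero.1 h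
    · exact h

/-- The linear characters of `G` trivial on a normal subgroup `N` with commutative quotient. -/
theorem exists_linear_dual [Finite G] (N : Subgroup G) [hN : N.Normal]
    (hab : ∀ x y : G, x * y * x⁻¹ * y⁻¹ ∈ N) :
    ∃ Λ : Finset (G →* ℂˣ), (∀ l : G →* ℂˣ, l ∈ Λ ↔ ∀ n ∈ N, l n = 1) ∧ Λ.card = N.index ∧
      (∀ g ∈ N, ∑ l ∈ Λ, (l g : ℂ) = N.index) ∧ (∀ g ∉ N, ∑ l ∈ Λ, (l g : ℂ) = 0) := by
  classical
  let : CommGroup (G ⧸ N) :=
    { (inferInstance : Group (G ⧸ N)) with
      mul_comm := by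
        intro a b
        induction a using QuotientGroup.induction_on with
        | H x =>
          induction b using QuotientGroup.induction_on with
          | H y =>
            rw [← QuotientGroup.mk_mul, ← QuotientGroup.mk_mul, eq_comm, QuotientGroup.eq]
            have h2 := hab x⁻¹ y⁻¹
            convert h2 using 1
            group }
  have : Finite (G ⧸ N) := inferInstance
  have : Finite ((G ⧸ N) →* ℂˣ) := by
    apply Nat.finite_of_card_ne_zero
    rw [CommGroup.card_monoidHom_of_hasEnoughRootsOfUnity (G ⧸ N) ℂ]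
    exact Nat.card_pos.ne'
  let : Fintype ((G ⧸ N) →* ℂˣ) := Fintype.ofFinite _
  have hinj : Function.Injective
      (fun l : (G ⧸ N) →* ℂˣ => l.comp (QuotientGroup.mk' N)) := by
    intro l m h
    exact QuotientGroup.monoidHom_ext N h
  have hsum : ∀ g : G, ∑ l ∈ Finset.univ.image
      (fun l : (G ⧸ N) →* ℂˣ => l.comp (QuotientGroup.mk' N)), (l g : ℂ) =
        if (g : G ⧸ N) = 1 then (Nat.card (G ⧸ N) : ℂ) else 0 := by
    intro g
    rw [← sum_dual_apply, Finset.sum_image (fun l _ m _ h => hinj h)]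
    rfl
  refine ⟨Finset.univ.image (fun l : (G ⧸ N) →* ℂˣ => l.comp (QuotientGroup.mk' N)),
    ?_, ?_, ?_, ?_⟩
  · intro l
    rw [Finset.mem_image]
    constructor
    · rintro ⟨m, -, rfl⟩ n hn
      rw [MonoidHom.comp_apply, QuotientGroup.mk'_apply, (QuotientGroup.eq_one_iff n).2 hn,
        map_one]
    · intro h
      refine ⟨QuotientGroup.lift N l (fun n hn => h n hn), Finset.mem_univ _, ?_⟩
      ext x
      rfl
  · rw [Finset.card_image_of_injective _ hinj, Finset.card_univ, ← Nat.card_eq_fintype_card,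
      CommGroup.card_monoidHom_of_hasEnoughRootsOfUnity (G ⧸ N) ℂ]
    rfl
  · intro g hg
    rw [hsum, if_pos ((QuotientGroup.eq_one_iff g).2 hg)]
    rfl
  · intro g hg
    rw [hsum, if_neg (fun h => hg ((QuotientGroup.eq_one_iff g).1 h))]

section

variable [Fintype G]

theorem hom_mul_conj (l : G →* ℂˣ) (g : G) : (l g : ℂ) * conj (l g : ℂ) = 1 := by
  rw [Complex.mul_conj, Complex.normSq_eq_norm_sq, norm_hom_apply l g]
  norm_num

/-- Multiplying both arguments by a linear character does not change the inner product. -/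
theorem classInner_linear_mul (l : G →* ℂˣ) (f h : G → ℂ) :
    classInner ((fun g => (l g : ℂ)) * f) ((fun g => (l g : ℂ)) * h) = classInner f h := by
  show (Nat.card G : ℂ)⁻¹ * ∑ g : G, ((l g : ℂ) * f g) * conj ((l g : ℂ) * h g) =
    (Nat.card G : ℂ)⁻¹ * ∑ g : G, f g * conj (h g)
  congr 1
  refine Finset.sum_congr rfl (fun g _ => ?_)
  rw [map_mul]
  calc (l g : ℂ) * f g * (conj (l g : ℂ) * conj (h g))
      = ((l g : ℂ) * conj (l g : ℂ)) * (f g * conj (h g)) := by ring
    _ = _ := by rw [hom_mul_conj, one_mul]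

/-- A linear character times an irreducible character is irreducible. -/
theorem isIrr_linear_mul (l : G →* ℂˣ) {χ : G → ℂ} (hχ : IsIrrCharacter G χ) :
    IsIrrCharacter G ((fun g => (l g : ℂ)) * χ) := by
  rw [isIrr_iff_classInner_self (isCharacter_mul (isCharacter_hom l) (isIrr_isCharacter hχ)),
    classInner_linear_mul, classInner_irr_self hχ]

open scoped Classical in
/-- The norm of the restriction of an irreducible character to a normal subgroup with
commutative quotient is the number of linear characters of the quotient fixing it. -/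
theorem classInner_restrict_self (N : Subgroup G) [Fintype N]
    {χ : G → ℂ} (hχ : IsIrrCharacter G χ) (Λ : Finset (G →* ℂˣ))
    (h1 : ∀ g ∈ N, ∑ l ∈ Λ, (l g : ℂ) = N.index) (h2 : ∀ g ∉ N, ∑ l ∈ Λ, (l g : ℂ) = 0) :
    classInner (fun n : N => χ n) (fun n : N => χ n) =
      ((Λ.filter (fun l => (fun g => (l g : ℂ)) * χ = χ)).card : ℂ) := by
  have hN0 : (Nat.card N : ℂ) ≠ 0 := Nat.cast_ne_zero.2 Nat.card_pos.ne'
  have hI0 : (N.index : ℂ) ≠ 0 := Nat.cast_ne_zero.2 Subgroup.index_ne_zero_of_finite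
  have hG0 : (Nat.card G : ℂ) ≠ 0 := Nat.cast_ne_zero.2 Nat.card_pos.ne'
  have e1 : (N.index : ℂ) * ∑ n : N, χ n * conj (χ n) =
      ∑ g : G, (∑ l ∈ Λ, (l g : ℂ)) * (χ g * conj (χ g)) := by
    have e0 : ∑ g ∈ Finset.univ.filter (fun g => g ∈ N), (∑ l ∈ Λ, (l g : ℂ)) *
        (χ g * conj (χ g)) = ∑ g ∈ Finset.univ.filter (fun g => g ∈ N),
          (N.index : ℂ) * (χ g * conj (χ g)) :=
      Finset.sum_congr rfl (fun g hg => by rw [h1 g (by simpa using hg)])
    rw [← Finset.sum_filter_add_sum_filter_not Finset.univ (fun g => g ∈ N)]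
    rw [Finset.sum_eq_zero (s := Finset.univ.filter (fun g => ¬ g ∈ N)), add_zero,
      Finset.mul_sum, e0]
    · exact (Finset.sum_subtype (p := fun g => g ∈ N) (Finset.univ.filter (fun g => g ∈ N))
        (by simp) (fun g => (N.index : ℂ) * (χ g * conj (χ g)))).symm
    · intro g hg
      rw [h2 g (by simpa using hg), zero_mul]
  have e2 : ∑ g : G, (∑ l ∈ Λ, (l g : ℂ)) * (χ g * conj (χ g)) =
      (Nat.card G : ℂ) * ∑ l ∈ Λ, classInner ((fun g => (l g : ℂ)) * χ) χ := by
    rw [Finset.mul_sum]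
    simp only [Finset.sum_mul]
    rw [Finset.sum_comm]
    refine Finset.sum_congr rfl (fun l _ => ?_)
    show _ = (Nat.card G : ℂ) * ((Nat.card G : ℂ)⁻¹ * ∑ g : G, ((l g : ℂ) * χ g) * conj (χ g))
    rw [← mul_assoc, mul_inv_cancel₀ hG0, one_mul]
    exact Finset.sum_congr rfl (fun g _ => by ring)
  have e3 : ∑ l ∈ Λ, classInner ((fun g => (l g : ℂ)) * χ) χ =
      ((Λ.filter (fun l => (fun g => (l g : ℂ)) * χ = χ)).card : ℂ) := by
    rw [Finset.card_filter, Nat.cast_sum]
    refine Finset.sum_congr rfl (fun l _ => ?_)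
    rw [classInner_irr (isIrr_linear_mul l hχ) hχ]
    split_ifs <;> simp
  have e4 : (Nat.card G : ℂ) = (Nat.card N : ℂ) * (N.index : ℂ) := by
    rw [← Nat.cast_mul, Subgroup.card_mul_index]
  show (Nat.card N : ℂ)⁻¹ * ∑ n : N, χ n * conj (χ n) = _
  have e5 : (N.index : ℂ) * ∑ n : N, χ n * conj (χ n) = (N.index : ℂ) * ((Nat.card N : ℂ) *
      ((Λ.filter (fun l => (fun g => (l g : ℂ)) * χ = χ)).card : ℂ)) := by
    rw [e1, e2, e3, e4]
    ring
  rw [mul_left_cancel₀ hI0 e5, ← mul_assoc, inv_mul_cancel₀ hN0, one_mul]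

/-- The norm of the restriction of an irreducible character vanishing off `N`. -/
theorem classInner_restrict_self_of_vanish (N : Subgroup G) [Fintype N]
    {χ : G → ℂ} (hχ : IsIrrCharacter G χ) (h0 : ∀ g ∉ N, χ g = 0) :
    classInner (fun n : N => χ n) (fun n : N => χ n) = N.index := by
  classical
  have hN0 : (Nat.card N : ℂ) ≠ 0 := Nat.cast_ne_zero.2 Nat.card_pos.ne'
  have hG0 : (Nat.card G : ℂ) ≠ 0 := Nat.cast_ne_zero.2 Nat.card_pos.ne'
  have e1 : ∑ n : N, χ n * conj (χ n) = ∑ g : G, χ g * conj (χ g) := by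
    rw [← Finset.sum_filter_add_sum_filter_not Finset.univ (fun g => g ∈ N)]
    rw [Finset.sum_eq_zero (s := Finset.univ.filter (fun g => ¬ g ∈ N)), add_zero]
    · exact (Finset.sum_subtype (p := fun g => g ∈ N) (Finset.univ.filter (fun g => g ∈ N))
        (by simp) (fun g => (χ g * conj (χ g)))).symm
    · intro g hg
      rw [h0 g (by simpa using hg), zero_mul]
  have e2 := classInner_irr_self hχ
  have e3 : ∑ g : G, χ g * conj (χ g) = (Nat.card G : ℂ) := by
    have : (Nat.card G : ℂ)⁻¹ * ∑ g : G, χ g * conj (χ g) = 1 := e2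
    field_simp at this
    exact this
  have e4 : (Nat.card G : ℂ) = (Nat.card N : ℂ) * (N.index : ℂ) := by
    rw [← Nat.cast_mul, Subgroup.card_mul_index]
  show (Nat.card N : ℂ)⁻¹ * ∑ n : N, χ n * conj (χ n) = _
  rw [e1, e3, e4, ← mul_assoc, inv_mul_cancel₀ hN0, one_mul]

end

end Cfsg.Agent.CharactersDeep.AbelianQuotient
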