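import Mathlib
set_option linter.all false

/-!
# Permutation lemmas for the Schur multiplier of the alternating groups
-/

set_option autoImplicit false

namespace Cfsg.Agent.CharactersDeep.SchurAltPerm

open Equiv Equiv.Perm Subgroup

variable {α : Type*} [DecidableEq α]

theorem conj_swap (g : Perm α) (a b : α) : g * swap a b * g⁻¹ = swap (g a) (g b) := by
  rw [mul_swap_eq_swap_mul]; simp

/-- the three-cycle on `{o, l, c}` -/
def x (o l c : α) : Perm α := swap o c * swap o l

theorem x_def (o l c : α) : x o l c = swap o c * swap o l := rfl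

theorem x_mul_x {o l c d : α}
    (hod : o ≠ d) (hld : l ≠ d) : x o l c * x o l d = swap o c * swap l d := by
  have h : swap o l * swap o d * swap o l = swap l d := by
    have := conj_swap (swap o l) o d
    rw [swap_inv] at this
    rw [this, swap_apply_left, swap_apply_of_ne_of_ne hod.symm hld.symm]
  rw [x_def, x_def, mul_assoc, ← h]
  simp only [mul_assoc]

theorem x_mul_x_sq {o l c d : α} (hol : o ≠ l) (hcd : c ≠ d) (hlc : l ≠ c)
    (hod : o ≠ d) (hld : l ≠ d) : (x o l c * x o l d) ^ 2 = 1 := by
  rw [x_mul_x hod hld]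
  have h := conj_swap (swap l d) o c
  rw [swap_apply_of_ne_of_ne hol hod, swap_apply_of_ne_of_ne hlc.symm hcd] at h
  rw [swap_inv] at h
  rw [pow_two, mul_assoc, ← mul_assoc (swap l d), h, swap_mul_self]

theorem x_isThreeCycle [Fintype α] {o l c : α} (hol : o ≠ l) (hoc : o ≠ c) (hlc : l ≠ c) :
    IsThreeCycle (x o l c) :=
  isThreeCycle_swap_mul_swap_same hoc hol hlc.symm

theorem x_inv (o l c : α) : (x o l c)⁻¹ = swap o l * swap o c := by
  rw [x_def, mul_inv_rev, swap_inv, swap_inv]

theorem conj_x (g : Perm α) (o l c : α) : g * x o l c * g⁻¹ = x (g o) (g l) (g c) := by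
  rw [x_def, x_def, ← conj_swap g o c, ← conj_swap g o l]
  group

theorem s_conj_x {o l c d : α} (hoc : o ≠ c) (hlc : l ≠ c)
    (hod : o ≠ d) (hld : l ≠ d) :
    (swap o l * swap c d) * x o l c * (swap o l * swap c d)⁻¹ = (x o l d)⁻¹ := by
  rw [conj_x]
  have h1 : (swap o l * swap c d) o = l := by
    rw [Perm.mul_apply, swap_apply_of_ne_of_ne hoc hod, swap_apply_left]
  have h2 : (swap o l * swap c d) l = o := by
    rw [Perm.mul_apply, swap_apply_of_ne_of_ne hlc hld, swap_apply_right]
  have h3 : (swap o l * swap c d) c = d := by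
    rw [Perm.mul_apply, swap_apply_left, swap_apply_of_ne_of_ne hod.symm hld.symm]
  rw [h1, h2, h3, x_inv, x_def]
  -- swap l d * swap l o = swap o l * swap o d
  have h : swap o l * swap o d * swap o l = swap l d := by
    have := conj_swap (swap o l) o d
    rw [swap_inv] at this
    rw [this, swap_apply_left, swap_apply_of_ne_of_ne hod.symm hld.symm]
  rw [← h, swap_comm l o]
  simp [mul_assoc]

theorem g_conj_x {o l c d e : α} (hcd : c ≠ d) (hce : c ≠ e) (hde : d ≠ e)
    (hoc : o ≠ c) (hlc : l ≠ c) (hod : o ≠ d) (hld : l ≠ d) (hoe : o ≠ e) (hle : l ≠ e) :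
    (swap c d * swap d e) * x o l c * (swap c d * swap d e)⁻¹ = x o l d ∧
    (swap c d * swap d e) * x o l d * (swap c d * swap d e)⁻¹ = x o l e := by
  rw [conj_x, conj_x]
  have h1 : (swap c d * swap d e) o = o := by
    rw [Perm.mul_apply, swap_apply_of_ne_of_ne hod hoe, swap_apply_of_ne_of_ne hoc hod]
  have h2 : (swap c d * swap d e) l = l := by
    rw [Perm.mul_apply, swap_apply_of_ne_of_ne hld hle, swap_apply_of_ne_of_ne hlc hld]
  have h3 : (swap c d * swap d e) c = d := by
    rw [Perm.mul_apply, swap_apply_of_ne_of_ne hcd hce, swap_apply_left]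
  have h4 : (swap c d * swap d e) d = e := by
    rw [Perm.mul_apply, swap_apply_left, swap_apply_of_ne_of_ne hce.symm hde.symm]
  rw [h1, h2, h3, h4]
  exact ⟨rfl, rfl⟩

/-- the star transpositions at `o` -/
theorem closure_star (o : α) [Finite α] :
    closure (Set.range (fun c : α => swap o c)) = ⊤ := by
  rw [eq_top_iff, ← closure_isSwap, closure_le]
  rintro _ ⟨a, b, hab, rfl⟩
  have hm : ∀ c, swap o c ∈ closure (Set.range (fun c : α => swap o c)) :=
    fun c => subset_closure ⟨c, rfl⟩
  by_cases ha : a = o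
  · subst ha; exact hm b
  by_cases hb : b = o
  · subst hb; rw [swap_comm]; exact hm a
  have h : swap o a * swap o b * (swap o a)⁻¹ = swap a b := by
    rw [conj_swap, swap_apply_left, swap_apply_of_ne_of_ne hb (Ne.symm hab)]
  rw [← h]
  exact mul_mem (mul_mem (hm a) (hm b)) (inv_mem (hm a))

theorem alternating_le_closure_x [Fintype α] {o l : α} (hol : o ≠ l) (S : Subgroup (Perm α))
    (hS : ∀ c, c ≠ o → c ≠ l → x o l c ∈ S) : alternatingGroup α ≤ S := by
  have hSA : ∀ c, c ≠ o → c ≠ l → x o l c ∈ S ⊓ alternatingGroup α := fun c h1 h2 =>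
    ⟨hS c h1 h2, (x_isThreeCycle hol (Ne.symm h1) (Ne.symm h2)).mem_alternatingGroup⟩
  have key : ∀ σ : Perm α, (σ ∈ S ⊓ alternatingGroup α ∨ σ * swap o l ∈ S ⊓ alternatingGroup α) →
      ∀ c, (σ * swap o c ∈ S ⊓ alternatingGroup α ∨
        σ * swap o c * swap o l ∈ S ⊓ alternatingGroup α) := by
    intro σ h c
    by_cases h1 : c = o
    · subst h1
      have e : swap c c = (1 : Perm α) := swap_self c
      rw [e, mul_one]
      exact h
    by_cases h2 : c = l
    · subst h2
      rcases h with h | h
      · right; rw [mul_assoc, swap_mul_self, mul_one]; exact h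
      · left; exact h
    rcases h with h | h
    · right; rw [mul_assoc, ← x_def]; exact mul_mem h (hSA c h1 h2)
    · left
      have e : σ * swap o c = (σ * swap o l) * (x o l c)⁻¹ := by
        rw [x_inv]; simp [mul_assoc]
      rw [e]
      exact mul_mem h (inv_mem (hSA c h1 h2))
  have all : ∀ σ ∈ closure (Set.range (fun c : α => swap o c)),
      (σ ∈ S ⊓ alternatingGroup α ∨ σ * swap o l ∈ S ⊓ alternatingGroup α) := by
    intro σ hσ
    induction hσ using Subgroup.closure_induction_right with
    | one => left; exact one_mem _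
    | mul_right σ _ z hz ih =>
      obtain ⟨c, rfl⟩ := hz
      exact key σ ih c
    | mul_inv_cancel σ _ z hz ih =>
      obtain ⟨c, rfl⟩ := hz
      simp only [swap_inv]
      exact key σ ih c
  intro σ hσ
  rcases all σ (by rw [closure_star]; trivial) with h | h
  · exact h.1
  · exfalso
    have h2 : σ * swap o l ∈ alternatingGroup α := h.2
    rw [mem_alternatingGroup] at h2 hσ
    rw [map_mul, hσ, sign_swap hol] at h2
    exact absurd h2 (by decide)

/-- an even permutation commuting with `x o l c` is a power of it times a permutation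
fixing `o`, `l`, `c`. -/
theorem commute_x [Fintype α] {o l c : α} (hol : o ≠ l) (hoc : o ≠ c) (hlc : l ≠ c)
    (k : Perm α) (hk : k * x o l c = x o l c * k) :
    ∃ j : ℕ, ∃ k' : Perm α, k = x o l c ^ j * k' ∧ k' o = o ∧ k' l = l ∧ k' c = c := by
  have t0 : x o l c o = l := by
    rw [x_def, Perm.mul_apply, swap_apply_left, swap_apply_of_ne_of_ne hol.symm hlc]
  have tl : x o l c l = c := by
    rw [x_def, Perm.mul_apply, swap_apply_right, swap_apply_left]
  have tc : x o l c c = o := by
    rw [x_def, Perm.mul_apply, swap_apply_of_ne_of_ne hoc.symm hlc.symm, swap_apply_right]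
  have tn : ∀ y, y ≠ o → y ≠ l → y ≠ c → x o l c y = y := fun y h1 h2 h3 => by
    rw [x_def, Perm.mul_apply, swap_apply_of_ne_of_ne h1 h2, swap_apply_of_ne_of_ne h1 h3]
  have base : ∀ k' : Perm α, k' * x o l c = x o l c * k' → k' o = o →
      (k' o = o ∧ k' l = l ∧ k' c = c) := by
    intro k' hk' h0
    have hkl : k' l = l := by
      have := congrArg (fun f : Perm α => f o) hk'
      simp only [Perm.mul_apply] at this
      rw [t0, h0, t0] at this
      exact this
    have hkc : k' c = c := by
      have := congrArg (fun f : Perm α => f l) hk'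
      simp only [Perm.mul_apply] at this
      rw [tl, hkl, tl] at this
      exact this
    exact ⟨h0, hkl, hkc⟩
  have hcomm : ∀ j : ℕ, (x o l c ^ j)⁻¹ * k * x o l c = x o l c * ((x o l c ^ j)⁻¹ * k) := by
    intro j
    have c1 : Commute (x o l c ^ j)⁻¹ (x o l c) := ((Commute.refl (x o l c)).pow_left j).inv_left
    have c2 : Commute k (x o l c) := hk
    exact (c1.mul_left c2)
  have hmem : k o = o ∨ k o = l ∨ k o = c := by
    by_contra hcon
    push Not at hcon
    have := congrArg (fun f : Perm α => f o) hk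
    simp only [Perm.mul_apply] at this
    rw [t0, tn _ hcon.1 hcon.2.1 hcon.2.2] at this
    exact hol.symm (k.injective this)
  rcases hmem with h | h | h
  · exact ⟨0, k, by simp, base k hk h⟩
  · refine ⟨1, (x o l c ^ 1)⁻¹ * k, by group, base _ (hcomm 1) ?_⟩
    rw [Perm.mul_apply, h, Perm.inv_eq_iff_eq, pow_one, t0]
  · refine ⟨2, (x o l c ^ 2)⁻¹ * k, by group, base _ (hcomm 2) ?_⟩
    rw [Perm.mul_apply, h, Perm.inv_eq_iff_eq, pow_two, Perm.mul_apply, t0, tl]

end Cfsg.Agent.CharactersDeep.SchurAltPerm
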