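import Mathlib
import Cfsg.Prelude.Def_Characters
import Cfsg.Agent.Characters.Core
import Cfsg.Agent.Characters.Central
import Cfsg.Agent.CharactersDeep.RChar
set_option linter.all false

/-!
# Local form of Brauer's theorem with algebraic integer coefficients

For a prime `p` there is a sum of functions induced from `p`-elementary subgroups, from
combinations of characters with algebraic integer coefficients, all whose values are rational
integers not divisible by `p`.
-/

set_option autoImplicit false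
open scoped ComplexConjugate
open Cfsg Cfsg.Agent.Characters.Core Cfsg.Agent.CharactersDeep.RChar

namespace Cfsg.Agent.CharactersDeep.PElem

section power

variable (G : Type*) [Group G] [Finite G] (p : ℕ) (hp : p.Prime)

include hp in
/-- A single exponent `e` such that `y ↦ y ^ e` is the `p'`-part. -/
theorem exists_exponent : ∃ e : ℕ, (∀ x : G, (orderOf x).Coprime p → x ^ e = x) ∧
    (∀ v : G, (∃ k, v ^ p ^ k = 1) → v ^ e = 1) ∧ (∀ y : G, (orderOf (y ^ e)).Coprime p) ∧
    (∀ y : G, ∃ k, (y * (y ^ e)⁻¹) ^ p ^ k = 1) := by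
  obtain ⟨a, m, hm, hG⟩ := Nat.exists_eq_pow_mul_and_not_dvd (n := Nat.card G)
    (Nat.card_pos.ne') p hp.ne_one
  have hcop : Nat.Coprime m (p ^ a) :=
    Nat.Coprime.pow_right a (Nat.Coprime.symm ((Nat.Prime.coprime_iff_not_dvd hp).2 hm))
  obtain ⟨e, he1, he0⟩ := Nat.chineseRemainder hcop 1 0
  have hordG : ∀ x : G, orderOf x ∣ p ^ a * m := fun x => hG ▸ orderOf_dvd_natCard x
  refine ⟨e, ?_, ?_, ?_, ?_⟩
  · intro x hx
    have h1 : orderOf x ∣ m := (Nat.Coprime.pow_right a hx).dvd_of_dvd_mul_left (hordG x)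
    have h2 : x ^ e = x ^ 1 := pow_eq_pow_iff_modEq.2 (he1.of_dvd h1)
    simpa using h2
  · rintro v ⟨k, hk⟩
    have h1 : orderOf v ∣ p ^ k := orderOf_dvd_of_pow_eq_one hk
    have h2 : (orderOf v).Coprime m := by
      refine Nat.Coprime.coprime_dvd_left h1 ?_
      exact Nat.Coprime.pow_left k ((Nat.Prime.coprime_iff_not_dvd hp).2 hm)
    have h3 : orderOf v ∣ p ^ a := h2.dvd_of_dvd_mul_right (hordG v)
    have h4 : v ^ e = v ^ 0 := pow_eq_pow_iff_modEq.2 (he0.of_dvd h3)
    simpa using h4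
  · intro y
    have h1 : (y ^ e) ^ m = 1 := by
      rw [← pow_mul]
      apply orderOf_dvd_iff_pow_eq_one.1
      refine (hordG y).trans ?_
      exact Nat.mul_dvd_mul ((Nat.modEq_zero_iff_dvd).1 he0) dvd_rfl
    exact Nat.Coprime.coprime_dvd_left (orderOf_dvd_of_pow_eq_one h1)
      (Nat.Coprime.symm ((Nat.Prime.coprime_iff_not_dvd hp).2 hm))
  · intro y
    refine ⟨a, ?_⟩
    have hc : Commute y (y ^ e)⁻¹ := ((Commute.refl y).pow_right e).inv_right
    rw [hc.mul_pow, inv_pow, ← pow_mul, mul_inv_eq_one]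
    apply pow_eq_pow_iff_modEq.2
    have h1 : p ^ a * m ∣ p ^ a * m := dvd_rfl
    have h2 : p ^ a ≡ e * p ^ a [MOD p ^ a * m] := by
      have := (he1.mul_left' (p ^ a)).symm
      rw [mul_one] at this
      rwa [mul_comm e]
    exact h2.of_dvd (hordG y)

end power

/-- The number of `g` with `g⁻¹ v g` in a Sylow `p`-subgroup `P`, for a `p`-element `v`, is
`|P|` times a number not divisible by `p`. -/
theorem exists_card_conj {K : Type*} [Group K] [Finite K] (p : ℕ) [hp : Fact p.Prime]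
    (P : Sylow p K) (v : K) (hv : ∃ k, v ^ p ^ k = 1) :
    ∃ n : ℕ, ¬ p ∣ n ∧ Nat.card {g : K // g⁻¹ * v * g ∈ P} = n * Nat.card P := by
  classical
  let Z : Subgroup K := Subgroup.zpowers v
  have hZ : IsPGroup p Z := by
    obtain ⟨k, hk⟩ := hv
    rintro ⟨z, hz⟩
    refine ⟨k, ?_⟩
    obtain ⟨i, rfl⟩ := Subgroup.mem_zpowers_iff.1 hz
    ext
    simp only [Subgroup.coe_pow, Subgroup.coe_one]
    rw [← zpow_natCast, ← zpow_mul, mul_comm, zpow_mul, zpow_natCast, hk, one_zpow]
  have hfix := hZ.card_modEq_card_fixedPoints (K ⧸ (P : Subgroup K))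
  refine ⟨Nat.card (MulAction.fixedPoints Z (K ⧸ (P : Subgroup K))), ?_, ?_⟩
  · intro h
    have h1 : ¬ p ∣ (P : Subgroup K).index := Sylow.not_dvd_index P
    apply h1
    exact (Nat.modEq_zero_iff_dvd).1 (hfix.trans ((Nat.modEq_zero_iff_dvd).2 h))
  · have e := QuotientGroup.preimageMkEquivSubgroupProdSet (P : Subgroup K)
      (MulAction.fixedPoints Z (K ⧸ (P : Subgroup K)))
    have h2 : {g : K // g⁻¹ * v * g ∈ P} ≃
        (QuotientGroup.mk (s := (P : Subgroup K)) ⁻¹' (MulAction.fixedPoints Z (K ⧸ (P : Subgroup K)))) := by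
      refine Equiv.subtypeEquivRight (fun g => ?_)
      constructor
      · intro hg
        rintro ⟨z, hz⟩
        obtain ⟨i, rfl⟩ := Subgroup.mem_zpowers_iff.1 hz
        show ((v ^ i * g : K) : K ⧸ (P : Subgroup K)) = (g : K ⧸ (P : Subgroup K))
        rw [eq_comm, QuotientGroup.eq, ← mul_assoc]
        have : g⁻¹ * v ^ i * g = (g⁻¹ * v * g) ^ i := by
          have := conj_zpow (a := g⁻¹) (b := v) (i := i)
          rw [inv_inv] at this
          exact this.symm
        rw [this]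
        exact zpow_mem hg i
      · intro hg
        have h3 := hg ⟨v, Subgroup.mem_zpowers v⟩
        have h4 : ((v * g : K) : K ⧸ (P : Subgroup K)) = (g : K ⧸ (P : Subgroup K)) := h3
        rw [eq_comm, QuotientGroup.eq, ← mul_assoc] at h4
        exact h4
    rw [Nat.card_congr h2, Nat.card_congr e, Nat.card_prod, mul_comm]

section central
/-- A central element of a finite group multiplies the values of an irreducible character by an
algebraic integer. -/
theorem exists_central_scalar {G : Type*} [Group G] [Finite G] {χ : G → ℂ}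
    (hχ : IsIrrCharacter G χ) {x : G} (hx : x ∈ Subgroup.center G) :
    ∃ ω : ℂ, IsIntegral ℤ ω ∧ ∀ g, χ (x * g) = ω * χ g := by
  obtain ⟨n, ρ, hirr, rfl⟩ := hχ
  obtain ⟨c, hc⟩ := Cfsg.Agent.Characters.Central.exists_smul_of_comm ρ hirr (ρ x) (fun g => by
    rw [← map_mul, ← map_mul, (Subgroup.mem_center_iff.1 hx g)])
  refine ⟨c, ?_, ?_⟩
  · have hpos := Cfsg.Agent.Characters.Central.finrank_pos_of_irr ρ hirr
    have hnt : Nontrivial (Fin n → ℂ) := Module.nontrivial_of_finrank_pos hpos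
    have h1 : (ρ x) ^ orderOf x = 1 := by rw [← map_pow, pow_orderOf_eq_one, map_one]
    rw [hc, smul_pow, one_pow] at h1
    obtain ⟨v, hv⟩ := exists_ne (0 : Fin n → ℂ)
    have h2 : c ^ orderOf x • v = v := by
      have := congrArg (fun f : Module.End ℂ (Fin n → ℂ) => f v) h1
      simpa using this
    have h3 : c ^ orderOf x - 1 = 0 := by
      have h4 : (c ^ orderOf x - 1) • v = 0 := by rw [sub_smul, h2, one_smul, sub_self]
      rcases smul_eq_zero.1 h4 with h | h
      · exact h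
      · exact absurd h hv
    refine IsIntegral.of_pow (orderOf_pos x) ?_
    rw [sub_eq_zero.1 h3]
    exact isIntegral_one
  · intro g
    show LinearMap.trace ℂ _ (ρ (x * g)) = c * LinearMap.trace ℂ _ (ρ g)
    rw [map_mul, hc, smul_mul_assoc, one_mul, map_smul, smul_eq_mul]

end central

section elem

variable {G : Type*} [Group G]

/-- The subgroup `⟨x⟩ Q` for `x` centralizing `Q`. -/
def elemSub (x : G) (Q : Subgroup G) (h : ∀ u ∈ Q, u * x = x * u) : Subgroup G where
  carrier := {e | ∃ i : ℤ, ∃ u ∈ Q, e = x ^ i * u}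
  mul_mem' := by
    rintro _ _ ⟨i, u, hu, rfl⟩ ⟨j, w, hw, rfl⟩
    refine ⟨i + j, u * w, Q.mul_mem hu hw, ?_⟩
    have hc : Commute u (x ^ j) := (show Commute u x from h u hu).zpow_right j
    rw [zpow_add, mul_assoc, mul_assoc, ← mul_assoc u, hc.eq, mul_assoc]
  one_mem' := ⟨0, 1, Q.one_mem, by simp⟩
  inv_mem' := by
    rintro _ ⟨i, u, hu, rfl⟩
    refine ⟨-i, u⁻¹, Q.inv_mem hu, ?_⟩
    have hc : Commute u⁻¹ (x ^ (-i)) := ((show Commute u x from h u hu).zpow_right (-i)).inv_left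
    rw [mul_inv_rev, ← zpow_neg, hc.eq]

variable {x : G} {Q : Subgroup G} {h : ∀ u ∈ Q, u * x = x * u}

theorem mem_elemSub {e : G} : e ∈ elemSub x Q h ↔ ∃ i : ℤ, ∃ u ∈ Q, e = x ^ i * u := Iff.rfl

theorem self_mem : x ∈ elemSub x Q h := ⟨1, 1, Q.one_mem, by simp⟩

theorem le_elemSub : Q ≤ elemSub x Q h := fun u hu => ⟨0, u, hu, by simp⟩

theorem comm_of_mem {e : G} (he : e ∈ elemSub x Q h) : e * x = x * e := by
  obtain ⟨i, u, hu, rfl⟩ := he
  have hc : Commute (x ^ i * u) x :=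
    ((Commute.refl x).zpow_left i).mul_left (show Commute u x from h u hu)
  exact hc.eq

theorem conj_mem {e : G} (he : e ∈ elemSub x Q h) {z : G} (hz : z ∈ Q) : e * z * e⁻¹ ∈ Q := by
  obtain ⟨i, u, hu, rfl⟩ := he
  have h1 : u * z * u⁻¹ ∈ Q := Q.mul_mem (Q.mul_mem hu hz) (Q.inv_mem hu)
  have hc : Commute (u * z * u⁻¹) (x ^ i) := (show Commute (u * z * u⁻¹) x from h _ h1).zpow_right i
  have h2 : x ^ i * u * z * (x ^ i * u)⁻¹ = u * z * u⁻¹ := by
    calc x ^ i * u * z * (x ^ i * u)⁻¹ = x ^ i * (u * z * u⁻¹) * (x ^ i)⁻¹ := by group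
      _ = u * z * u⁻¹ := by rw [← hc.eq]; group
  rw [h2]
  exact h1

variable [Finite G] {p : ℕ} [hp : Fact p.Prime]

theorem card_elemSub (hx : (orderOf x).Coprime p) (hQ : IsPGroup p Q) :
    Nat.card (elemSub x Q h) = orderOf x * Nat.card Q := by
  have hdisj : Disjoint (Subgroup.zpowers x) Q := by
    apply Subgroup.disjoint_of_coprime_natCard
    obtain ⟨k, hk⟩ := IsPGroup.iff_card.1 hQ
    rw [hk, Nat.card_zpowers]
    exact Nat.Coprime.pow_right k hx
  rw [← Nat.card_zpowers, ← Nat.card_prod]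
  refine (Nat.card_congr (Equiv.ofBijective
    (fun a : Subgroup.zpowers x × Q => (⟨a.1 * a.2, ?_⟩ : elemSub x Q h)) ⟨?_, ?_⟩)).symm
  · obtain ⟨i, hi⟩ := Subgroup.mem_zpowers_iff.1 a.1.2
    exact ⟨i, a.2, a.2.2, by rw [hi]⟩
  · rintro ⟨⟨a, ha⟩, ⟨u, hu⟩⟩ ⟨⟨b, hb⟩, ⟨w, hw⟩⟩ hab
    simp only [Subtype.mk.injEq, Prod.mk.injEq] at hab ⊢
    have h1 : b⁻¹ * a = w * u⁻¹ := by
      rw [eq_mul_inv_iff_mul_eq, mul_assoc, hab]; group
    have h2 : b⁻¹ * a ∈ Subgroup.zpowers x ⊓ Q :=
      ⟨Subgroup.mul_mem _ (Subgroup.inv_mem _ hb) ha,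
        h1 ▸ Subgroup.mul_mem _ hw (Subgroup.inv_mem _ hu)⟩
    rw [hdisj.eq_bot, Subgroup.mem_bot] at h2
    have h3 : w * u⁻¹ = 1 := h1 ▸ h2
    exact ⟨(inv_mul_eq_one.1 h2).symm, (mul_inv_eq_one.1 h3).symm⟩
  · rintro ⟨_, i, u, hu, rfl⟩
    exact ⟨(⟨x ^ i, Subgroup.zpow_mem_zpowers x i⟩, ⟨u, hu⟩), rfl⟩

theorem isElementary_elemSub (hx : (orderOf x).Coprime p) (hQ : IsPGroup p Q) :
    IsElementary p (elemSub x Q h) := by
  refine ⟨⟨x, self_mem⟩, ?_, ?_, ?_⟩
  · rw [Subgroup.mem_center_iff]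
    rintro ⟨e, he⟩
    ext
    exact comm_of_mem he
  · rwa [Subgroup.orderOf_mk]
  · obtain ⟨k, hk⟩ := IsPGroup.iff_card.1 hQ
    refine ⟨k, ?_⟩
    have h1 := Subgroup.card_mul_index (Subgroup.zpowers (⟨x, self_mem⟩ : elemSub x Q h))
    rw [Nat.card_zpowers, Subgroup.orderOf_mk, card_elemSub hx hQ] at h1
    have h2 := Nat.eq_of_mul_eq_mul_left (orderOf_pos x) h1
    rw [h2, hk]

open scoped Classical in
/-- The function on `⟨x⟩ Q` that is `|x|` on the coset `x Q` and zero elsewhere. -/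
noncomputable def elemFun (x : G) (Q : Subgroup G) (h : ∀ u ∈ Q, u * x = x * u) :
    elemSub x Q h → ℂ := fun e => if x⁻¹ * (e : G) ∈ Q then (orderOf x : ℂ) else 0

omit [Finite G] in
theorem sum_elemFun [Fintype (elemSub x Q h)] [Fintype Q] (F : G → ℂ) :
    ∑ e : elemSub x Q h, elemFun x Q h e * F e = orderOf x * ∑ u : Q, F (x * u) := by
  classical
  rw [Finset.mul_sum]
  symm
  have hmem : ∀ u : Q, x * (u : G) ∈ elemSub x Q h := fun u => ⟨1, u, u.2, by simp⟩
  have hinj : Function.Injective (fun u : Q => (⟨x * u, hmem u⟩ : elemSub x Q h)) := by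
    intro a b hab
    have := congrArg Subtype.val hab
    exact Subtype.ext (mul_left_cancel this)
  rw [← Finset.sum_subset (Finset.subset_univ ((Finset.univ : Finset Q).map ⟨_, hinj⟩))]
  · rw [Finset.sum_map]
    refine Finset.sum_congr rfl (fun u _ => ?_)
    show (orderOf x : ℂ) * F (x * u) =
      (if x⁻¹ * (x * (u : G)) ∈ Q then (orderOf x : ℂ) else 0) * F (x * u)
    rw [inv_mul_cancel_left, if_pos u.2]
  · intro e _ he
    have : ¬ (x⁻¹ * (e : G) ∈ Q) := by
      intro hq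
      apply he
      rw [Finset.mem_map]
      refine ⟨⟨_, hq⟩, Finset.mem_univ _, ?_⟩
      ext
      show x * (x⁻¹ * (e : G)) = e
      rw [mul_inv_cancel_left]
    simp only [elemFun, if_neg this, zero_mul]

omit [Finite G] in
theorem isClassFunction_elemFun : IsClassFunction (elemSub x Q h) (elemFun x Q h) := by
  classical
  rintro ⟨g, hg⟩ ⟨e, he⟩
  have key : x⁻¹ * (e * g * e⁻¹) ∈ Q ↔ x⁻¹ * g ∈ Q := by
    have h1 : x⁻¹ * (e * g * e⁻¹) = e * (x⁻¹ * g) * e⁻¹ := by
      have h2 : x⁻¹ * e = e * x⁻¹ := by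
        have := comm_of_mem he
        rw [inv_mul_eq_iff_eq_mul, ← mul_assoc, ← this, mul_assoc, mul_inv_cancel, mul_one]
      calc x⁻¹ * (e * g * e⁻¹) = (x⁻¹ * e) * g * e⁻¹ := by group
        _ = e * (x⁻¹ * g) * e⁻¹ := by rw [h2]; group
    rw [h1]
    constructor
    · intro h3
      have h4 := conj_mem (inv_mem he) h3
      have h5 : e⁻¹ * (e * (x⁻¹ * g) * e⁻¹) * e⁻¹⁻¹ = x⁻¹ * g := by group
      rwa [h5] at h4
    · intro h3
      exact conj_mem he h3
  show (if x⁻¹ * (e * g * e⁻¹) ∈ Q then (orderOf x : ℂ) else 0) = if x⁻¹ * g ∈ Q then _ else _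
  simp only [key]

theorem isRChar_elemFun (hx : (orderOf x).Coprime p) (hQ : IsPGroup p Q) :
    IsRChar (elemSub x Q h) (elemFun x Q h) := by
  classical
  refine ⟨isClassFunction_elemFun, fun {_} χ hχ => ?_⟩
  have : Fintype Q := Fintype.ofFinite Q
  have hxc : (⟨x, self_mem⟩ : elemSub x Q h) ∈ Subgroup.center (elemSub x Q h) := by
    rw [Subgroup.mem_center_iff]
    rintro ⟨e, he⟩
    ext
    exact comm_of_mem he
  obtain ⟨ω, hω, hωχ⟩ := exists_central_scalar hχ hxc
  have hχ' : IsCharacter Q (χ ∘ Subgroup.inclusion (le_elemSub (x := x) (h := h))) :=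
    isCharacter_comp (Subgroup.inclusion le_elemSub) (isIrr_isCharacter hχ)
  have h1 : IsIntegral ℤ (Cfsg.classInner (1 : Q → ℂ)
      (χ ∘ Subgroup.inclusion (le_elemSub (x := x) (h := h)))) :=
    isRChar_one.classInner_isIntegral hχ'
  have key : Cfsg.classInner (elemFun x Q h) χ = conj ω * Cfsg.classInner (1 : Q → ℂ)
      (χ ∘ Subgroup.inclusion (le_elemSub (x := x) (h := h))) := by
    have h2 := sum_elemFun (x := x) (Q := Q) (h := h)
      (fun g => if hg : g ∈ elemSub x Q h then conj (χ ⟨g, hg⟩) else 0)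
    have h3 : ∑ e : elemSub x Q h, elemFun x Q h e * conj (χ e) =
        orderOf x * ∑ u : Q, conj (ω * χ (Subgroup.inclusion le_elemSub u)) := by
      have h4 : ∀ e : elemSub x Q h, elemFun x Q h e * conj (χ e) = elemFun x Q h e *
          (fun g => if hg : g ∈ elemSub x Q h then conj (χ ⟨g, hg⟩) else 0) (e : G) := by
        intro e
        simp only [SetLike.coe_mem, dite_true]
      rw [Finset.sum_congr rfl (fun e _ => h4 e), h2]
      congr 1
      refine Finset.sum_congr rfl (fun u _ => ?_)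
      have hm : x * (u : G) ∈ elemSub x Q h := ⟨1, u, u.2, by simp⟩
      simp only [hm, dite_true]
      rw [← hωχ]
      rfl
    show (Nat.card (elemSub x Q h) : ℂ)⁻¹ * ∑ e : elemSub x Q h, elemFun x Q h e * conj (χ e) =
      conj ω * ((Nat.card Q : ℂ)⁻¹ * ∑ u : Q, (1 : Q → ℂ) u *
        conj ((χ ∘ Subgroup.inclusion (le_elemSub (x := x) (h := h))) u))
    rw [h3, card_elemSub hx hQ]
    have h5 : (orderOf x : ℂ) ≠ 0 := by exact_mod_cast (orderOf_pos x).ne'
    simp only [map_mul, ← Finset.mul_sum, Pi.one_apply, one_mul, Function.comp_apply]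
    push_cast
    field_simp
  rw [key]
  exact (isIntegral_conj hω).mul h1

end elem

section ind
open scoped Classical

variable {G : Type*} [Group G] [Fintype G] {x : G} {Q : Subgroup G} {h : ∀ u ∈ Q, u * x = x * u}
  {p : ℕ} [hp : Fact p.Prime]

theorem indFun_elemFun (hx : (orderOf x).Coprime p) (hQ : IsPGroup p Q) (y : G) :
    indFun (elemSub x Q h) (elemFun x Q h) y =
      (Nat.card Q : ℂ)⁻¹ * Nat.card {g : G // x⁻¹ * (g⁻¹ * y * g) ∈ Q} := by
  have h1 : ∀ z : G, extendByZero (elemSub x Q h) (elemFun x Q h) z =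
      if x⁻¹ * z ∈ Q then (orderOf x : ℂ) else 0 := by
    intro z
    by_cases hz : z ∈ elemSub x Q h
    · rw [NormalInd.extendByZero_of_mem _ _ hz]
      rfl
    · rw [NormalInd.extendByZero_of_not_mem _ _ hz, if_neg]
      intro h2
      apply hz
      exact ⟨1, x⁻¹ * z, h2, by simp⟩
  rw [NormalInd.indFun_apply, card_elemSub hx hQ]
  simp only [h1]
  have h6 : Nat.card {g : G // x⁻¹ * (g⁻¹ * y * g) ∈ Q} =
      (Finset.univ.filter (fun g : G => x⁻¹ * (g⁻¹ * y * g) ∈ Q)).card := by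
    rw [Nat.card_eq_fintype_card, Fintype.card_subtype]
  rw [← Finset.sum_filter, Finset.sum_const, nsmul_eq_mul, h6]
  have h5 : (orderOf x : ℂ) ≠ 0 := by exact_mod_cast (orderOf_pos x).ne'
  push_cast
  field_simp

end ind

section local_thm

variable {G : Type*} [Group G] [Fintype G] {p : ℕ} [hp : Fact p.Prime]

theorem exists_class (x : G) (hx : (orderOf x).Coprime p) (e : ℕ)
    (he1 : ∀ x : G, (orderOf x).Coprime p → x ^ e = x)
    (he2 : ∀ v : G, (∃ k, v ^ p ^ k = 1) → v ^ e = 1)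
    (he4 : ∀ y : G, ∃ k, (y * (y ^ e)⁻¹) ^ p ^ k = 1) :
    ∃ (E : Subgroup G) (ψ : E → ℂ), IsElementary p E ∧ IsRChar E ψ ∧
      (∀ y, ¬ IsConj x (y ^ e) → indFun E ψ y = 0) ∧
      (∀ y, IsConj x (y ^ e) → ∃ z : ℕ, ¬ p ∣ z ∧ indFun E ψ y = z) := by
  classical
  let K : Subgroup G := Subgroup.centralizer {x}
  let P : Sylow p K := default
  let Q : Subgroup G := (P : Subgroup K).map K.subtype
  have hQK : ∀ u ∈ Q, u ∈ K := by
    rintro _ ⟨u, _, rfl⟩
    exact u.2
  have hQ : IsPGroup p Q := P.isPGroup'.map K.subtype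
  have h : ∀ u ∈ Q, u * x = x * u := fun u hu => Subgroup.mem_centralizer_singleton_iff.1 (hQK u hu)
  have hcardQ : Nat.card Q = Nat.card P :=
    Nat.card_congr ((P : Subgroup K).equivMapOfInjective K.subtype K.subtype_injective).toEquiv.symm
  have hpow : ∀ u ∈ Q, u ^ e = 1 := by
    intro u hu
    apply he2
    obtain ⟨k, hk⟩ := hQ ⟨u, hu⟩
    exact ⟨k, by simpa using congrArg Subtype.val hk⟩
  have claim1 : ∀ y g : G, x⁻¹ * (g⁻¹ * y * g) ∈ Q → g⁻¹ * y ^ e * g = x := by
    intro y g hg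
    have h1 : (g⁻¹ * y * g) ^ e = g⁻¹ * y ^ e * g := by
      have := conj_pow (a := g⁻¹) (b := y) (i := e)
      rwa [inv_inv] at this
    rw [← h1]
    have h2 : g⁻¹ * y * g = x * (x⁻¹ * (g⁻¹ * y * g)) := by rw [mul_inv_cancel_left]
    rw [h2]
    have hc : Commute x (x⁻¹ * (g⁻¹ * y * g)) := (h _ hg).symm
    rw [hc.mul_pow, hpow _ hg, he1 x hx, mul_one]
  refine ⟨elemSub x Q h, elemFun x Q h, isElementary_elemSub hx hQ, isRChar_elemFun hx hQ, ?_, ?_⟩
  · intro y hy
    rw [indFun_elemFun hx hQ]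
    have : IsEmpty {g : G // x⁻¹ * (g⁻¹ * y * g) ∈ Q} := by
      constructor
      rintro ⟨g, hg⟩
      apply hy
      rw [isConj_iff]
      refine ⟨g, ?_⟩
      rw [← claim1 y g hg]
      group
    rw [Nat.card_of_isEmpty (α := {g : G // x⁻¹ * (g⁻¹ * y * g) ∈ Q})]
    simp
  · intro y hy
    obtain ⟨c, hc⟩ := isConj_iff.1 hy
    set y' := c⁻¹ * y * c with hy'
    have hy'e : y' ^ e = x := by
      have := conj_pow (a := c⁻¹) (b := y) (i := e)
      rw [inv_inv] at this
      rw [hy', this, ← hc]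
      group
    have h1 : indFun (elemSub x Q h) (elemFun x Q h) y =
        indFun (elemSub x Q h) (elemFun x Q h) y' := by
      have := NormalInd.indFun_isClassFunction (elemSub x Q h) (elemFun x Q h) y c⁻¹
      rw [inv_inv] at this
      exact this.symm
    have hcomm : Commute y' x := by
      rw [← hy'e]
      exact (Commute.refl y').pow_right e
    set v : G := x⁻¹ * y' with hv
    have hvx : Commute v x := ((Commute.refl x).inv_left).mul_left hcomm
    have hvp : ∃ k, v ^ p ^ k = 1 := by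
      obtain ⟨k, hk⟩ := he4 y'
      refine ⟨k, ?_⟩
      rw [hy'e] at hk
      rw [hv, ← hk]
      congr 1
      exact (hcomm.inv_right).eq.symm
    have hvK : v ∈ K := Subgroup.mem_centralizer_singleton_iff.2 hvx.eq
    obtain ⟨n, hn, hcard⟩ := exists_card_conj p P (⟨v, hvK⟩ : K) (by
      obtain ⟨k, hk⟩ := hvp
      exact ⟨k, Subtype.ext (by simpa using hk)⟩)
    refine ⟨n, hn, ?_⟩
    rw [h1, indFun_elemFun hx hQ]
    have hcd : Nat.card {g : G // x⁻¹ * (g⁻¹ * y' * g) ∈ Q} =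
        Nat.card {g : K // g⁻¹ * (⟨v, hvK⟩ : K) * g ∈ P} := by
      have hy'v : y' = x * v := by rw [hv, mul_inv_cancel_left]
      have hKmem : ∀ g : G, x⁻¹ * (g⁻¹ * y' * g) ∈ Q → g ∈ K := by
        intro g hg
        have h2 := claim1 y' g hg
        rw [hy'e] at h2
        apply Subgroup.mem_centralizer_singleton_iff.2
        have h3 : g * (g⁻¹ * x * g) = g * x := by rw [h2]
        rw [← h3]; group
      have hiff : ∀ g : K, x⁻¹ * ((g : G)⁻¹ * y' * g) ∈ Q ↔ g⁻¹ * (⟨v, hvK⟩ : K) * g ∈ P := by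
        intro g
        have h2 : x⁻¹ * ((g : G)⁻¹ * y' * g) = ((g⁻¹ * (⟨v, hvK⟩ : K) * g : K) : G) := by
          have hgx : x * (g : G) = g * x := (Subgroup.mem_centralizer_singleton_iff.1 g.2).symm
          have hgx' : Commute x (g : G)⁻¹ := (show Commute x (g : G) from hgx).inv_right
          rw [hy'v]
          show _ = (g : G)⁻¹ * v * g
          calc x⁻¹ * ((g : G)⁻¹ * (x * v) * g) = x⁻¹ * ((g : G)⁻¹ * x) * (v * g) := by group
            _ = x⁻¹ * (x * (g : G)⁻¹) * (v * g) := by rw [hgx'.eq]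
            _ = _ := by group
        rw [h2]
        constructor
        · rintro ⟨w, hw, hw2⟩
          have : w = g⁻¹ * (⟨v, hvK⟩ : K) * g := Subtype.ext hw2
          rw [← this]; exact hw
        · intro hw
          exact ⟨_, hw, rfl⟩
      refine Nat.card_congr ⟨fun g => ⟨⟨g.1, hKmem g.1 g.2⟩, (hiff ⟨g.1, hKmem g.1 g.2⟩).1 g.2⟩,
        fun g => ⟨(g.1 : G), (hiff g.1).2 g.2⟩, fun g => rfl, fun g => rfl⟩
    rw [hcd, hcard, hcardQ]
    have h5 : (Nat.card P : ℂ) ≠ 0 := by exact_mod_cast Nat.card_pos.ne'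
    push_cast
    field_simp

/-- **Local form of Brauer's theorem with algebraic integer coefficients.** There are
`p`-elementary subgroups `E i` and functions `ψ i` on them which are combinations of characters
with algebraic integer coefficients, such that the sum of the induced functions takes only
values that are rational integers not divisible by `p`. -/
theorem exists_local (G : Type*) [Group G] [Fintype G] (p : ℕ) [hp : Fact p.Prime] :
    ∃ (E : ConjClasses G → Subgroup G) (ψ : ∀ c, E c → ℂ), (∀ c, IsElementary p (E c)) ∧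
      (∀ c, IsRChar (E c) (ψ c)) ∧
      ∀ y, ∃ z : ℤ, ¬ (p : ℤ) ∣ z ∧ ∑ᶠ c, indFun (E c) (ψ c) y = z := by
  classical
  obtain ⟨e, he1, he2, he3, he4⟩ := exists_exponent G p hp.out
  have key : ∀ c : ConjClasses G, ∃ (E : Subgroup G) (ψ : E → ℂ), IsElementary p E ∧ IsRChar E ψ ∧
      (∀ y, c ≠ ConjClasses.mk (y ^ e) → indFun E ψ y = 0) ∧
      (∀ y, c = ConjClasses.mk (y ^ e) → ∃ z : ℕ, ¬ p ∣ z ∧ indFun E ψ y = z) := by
    intro c
    obtain ⟨x, rfl⟩ := ConjClasses.exists_rep c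
    by_cases hx : (orderOf x).Coprime p
    · obtain ⟨E, ψ, h1, h2, h3, h4⟩ := exists_class x hx e he1 he2 he4
      refine ⟨E, ψ, h1, h2, fun y hy => h3 y ?_, fun y hy => h4 y ?_⟩
      · intro hc
        exact hy (ConjClasses.mk_eq_mk_iff_isConj.2 hc)
      · exact ConjClasses.mk_eq_mk_iff_isConj.1 hy
    · refine ⟨⊥, 0, ⟨1, Subgroup.one_mem _, by simp, 0, ?_⟩, isRChar_zero, ?_, ?_⟩
      · rw [Subgroup.zpowers_one_eq_bot, Subgroup.index_bot]
        simp
      · intro y _
        rw [NormalInd.indFun_apply]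
        have : ∀ z : G, extendByZero (⊥ : Subgroup G) 0 z = 0 := by
          intro z
          by_cases hz : z ∈ (⊥ : Subgroup G)
          · rw [NormalInd.extendByZero_of_mem _ _ hz]; rfl
          · rw [NormalInd.extendByZero_of_not_mem _ _ hz]
        simp only [this, Finset.sum_const_zero, mul_zero]
      · intro y hy
        exfalso
        apply hx
        have h1 := he3 y
        obtain ⟨g, hg⟩ := isConj_iff.1 (ConjClasses.mk_eq_mk_iff_isConj.1 hy)
        rw [← hg] at h1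
        have h2 : orderOf (g * x * g⁻¹) = orderOf x := by
          have := orderOf_injective (MulAut.conj g).toMonoidHom (MulAut.conj g).injective x
          simpa using this
        rwa [h2] at h1
  choose E ψ hE hψ h0 h1 using key
  refine ⟨E, ψ, hE, hψ, fun y => ?_⟩
  obtain ⟨z, hz, hz'⟩ := h1 (ConjClasses.mk (y ^ e)) y rfl
  refine ⟨z, by exact_mod_cast hz, ?_⟩
  rw [finsum_eq_single _ (ConjClasses.mk (y ^ e)) (fun c hc => h0 c y hc), hz']
  simp

end local_thm

end Cfsg.Agent.CharactersDeep.PElem
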