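import Mathlib.RepresentationTheory.Character
import Mathlib.Analysis.Complex.Basic
import Mathlib.GroupTheory.Subgroup.Centralizer
import Cfsg.Prelude.Def_Characters
import Cfsg.Prelude.Def_OddOrderChar
import Cfsg.Agent.Characters.Core
import Cfsg.Agent.Characters.FrobeniusBasic
import Cfsg.Agent.OddOrderCharacters.ClassSum
set_option linter.all false

/-!
# Characters not having a normal subgroup in their kernel

For `K` normal in the finite group `G` and `χ` an irreducible character of `G` whose kernel does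
not contain `K`: the sum of `χ` over each coset of `K` is zero, and `χ` vanishes at each `g` that
centralises no non-identity element of `K`.  The regular character relation, and the case of a
T.I. subgroup with Frobenius normalizer.
-/

set_option autoImplicit false

open scoped ComplexConjugate
open Cfsg

namespace Cfsg.Agent.CharactersDeep.Tifn

universe u

variable {G : Type u} [Group G]

/-- The sum over a coset of `K` of an irreducible character not having `K` in its kernel. -/
theorem sum_mul_eq_zero [Finite G] (K : Subgroup G) [K.Normal] [Fintype K] {χ : G → ℂ}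
    (hχ : IsIrrCharacter G χ) (hK : ∃ k ∈ K, χ k ≠ χ 1) (g : G) :
    ∑ k : K, χ (g * k) = 0 := by
  classical
  obtain ⟨n, ρ, hρ, rfl⟩ := hχ
  obtain ⟨k₀, hk₀, hne⟩ := hK
  let s : Finset G := (Finset.univ : Finset K).map ⟨Subtype.val, Subtype.val_injective⟩
  have hmem : ∀ x : G, x ∈ s ↔ x ∈ K := by
    intro x
    simp [s]
  obtain ⟨c, hc⟩ := OddOrderCharacters.ClassSum.invariant_sum_scalar ρ hρ s (by
    intro g x hx
    rw [hmem] at hx ⊢
    exact Subgroup.Normal.conj_mem inferInstance x hx g)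
  have hc0 : c = 0 := by
    by_contra hc0
    apply hne
    have h1 : ρ k₀ * ∑ x ∈ s, ρ x = ∑ x ∈ s, ρ x := by
      rw [Finset.mul_sum]
      refine Finset.sum_bij' (fun x _ => k₀ * x) (fun x _ => k₀⁻¹ * x) ?_ ?_ ?_ ?_ ?_
      · intro x hx
        rw [hmem] at hx ⊢
        exact K.mul_mem hk₀ hx
      · intro x hx
        rw [hmem] at hx ⊢
        exact K.mul_mem (K.inv_mem hk₀) hx
      · intro x _
        simp
      · intro x _
        simp
      · intro x _
        rw [map_mul]
    rw [hc, mul_smul_comm, mul_one] at h1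
    have h2 : ρ k₀ = 1 := smul_right_injective _ hc0 h1
    show LinearMap.trace ℂ _ (ρ k₀) = LinearMap.trace ℂ _ (ρ 1)
    rw [h2, map_one ρ]
  have h3 : ∑ k : K, ρ (g * k) = 0 := by
    have h4 : ∑ x ∈ s, ρ x = ∑ k : K, ρ (k : G) := by
      simp only [s, Finset.sum_map, Function.Embedding.coeFn_mk]
    have h5 : ∑ k : K, ρ (g * k) = ρ g * ∑ k : K, ρ (k : G) := by
      rw [Finset.mul_sum]
      exact Finset.sum_congr rfl (fun k _ => by rw [map_mul])
    rw [h5, ← h4, hc, hc0, zero_smul, mul_zero]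
  have h6 : ∑ k : K, ρ.character (g * k) = LinearMap.trace ℂ _ (∑ k : K, ρ (g * k)) := by
    rw [map_sum]
    rfl
  rw [h6, h3, map_zero]

/-- An irreducible character not having the normal subgroup `K` in its kernel vanishes at each
element centralising no non-identity element of `K`. -/
theorem apply_eq_zero [Finite G] (K : Subgroup G) [K.Normal] {χ : G → ℂ}
    (hχ : IsIrrCharacter G χ) (hK : ∃ k ∈ K, χ k ≠ χ 1) (g : G)
    (hg : ∀ c ∈ K, c * g = g * c → c = 1) : χ g = 0 := by
  classical
  let _ : Fintype K := Fintype.ofFinite K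
  have h1 := sum_mul_eq_zero K hχ hK g
  have h2 : ∀ k : K, χ (g * k) = χ g := by
    intro k
    have h3 : g * (k : G) * g⁻¹ ∈ K := Subgroup.Normal.conj_mem inferInstance (k : G) k.2 g
    obtain ⟨x, _, hxe⟩ := Characters.FrobeniusBasic.exists_conj_eq_of_centralizer K g hg _ h3
    have h4 : g * (k : G) = x * g * x⁻¹ := by
      rw [hxe]
      group
    rw [h4]
    exact Characters.Core.isIrr_isClassFunction hχ g x
  rw [Finset.sum_congr rfl (fun k _ => h2 k), Finset.sum_const, nsmul_eq_mul] at h1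
  rcases mul_eq_zero.mp h1 with h5 | h5
  · exfalso
    rw [Finset.card_univ] at h5
    exact Fintype.card_ne_zero (Nat.cast_eq_zero.mp h5)
  · exact h5

/-- The regular character vanishes at each non-identity element. -/
theorem sum_irr_apply_one_mul [Fintype G] [Fintype (IrrCharacter G)] {g : G} (hg : g ≠ 1) :
    ∑ χ : IrrCharacter G, (χ : G → ℂ) 1 * (χ : G → ℂ) g = 0 := by
  classical
  let δ : G → ℂ := fun x => if x = 1 then 1 else 0
  have hδ : IsClassFunction G δ := by
    intro x h
    have : h * x * h⁻¹ = 1 ↔ x = 1 := by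
      constructor
      · intro hh
        have : x = h⁻¹ * (h * x * h⁻¹) * h := by group
        rw [this, hh]
        group
      · rintro rfl
        group
    simp only [δ, this]
  have h1 := congrFun (Characters.Core.classFunction_eq_sum hδ) g
  have h2 : ∀ χ : IrrCharacter G, classInner δ (χ : G → ℂ) =
      (Nat.card G : ℂ)⁻¹ * (χ : G → ℂ) 1 := by
    intro χ
    obtain ⟨n, _, hn⟩ := Characters.Core.isIrr_apply_one χ.2
    show (Nat.card G : ℂ)⁻¹ * ∑ x : G, δ x * conj ((χ : G → ℂ) x) = _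
    congr 1
    rw [Finset.sum_eq_single (1 : G)]
    · simp only [δ, if_true, one_mul, hn, Complex.conj_natCast]
    · intro b _ hb
      simp only [δ, if_neg hb, zero_mul]
    · intro h
      exact absurd (Finset.mem_univ _) h
  have h3 : δ g = 0 := by simp only [δ, if_neg hg]
  rw [h3, Finset.sum_apply] at h1
  have h4 : ∀ χ : IrrCharacter G, (classInner δ (χ : G → ℂ) • (χ : G → ℂ)) g =
      (Nat.card G : ℂ)⁻¹ * ((χ : G → ℂ) 1 * (χ : G → ℂ) g) := by
    intro χ
    rw [Pi.smul_apply, smul_eq_mul, h2 χ, mul_assoc]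
  rw [Finset.sum_congr rfl (fun χ _ => h4 χ), ← Finset.mul_sum] at h1
  rcases mul_eq_zero.mp h1.symm with h5 | h5
  · exfalso
    have hG : (Nat.card G : ℂ) ≠ 0 := Nat.cast_ne_zero.2 Nat.card_pos.ne'
    exact hG (inv_eq_zero.mp h5)
  · exact h5

/-- An irreducible character whose kernel does not contain `K` is not principal. -/
theorem ne_one {K : Subgroup G} {χ : G → ℂ} (hK : ∃ k ∈ K, χ k ≠ χ 1) : χ ≠ 1 := by
  rintro rfl
  obtain ⟨k, _, hk⟩ := hK
  exact hk rfl

section normalizer

variable (K : Subgroup G)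

/-- `K` as a subgroup of its normalizer. -/
abbrev kerN : Subgroup ↥(Subgroup.normalizer (K : Set G)) :=
  K.subgroupOf (Subgroup.normalizer (K : Set G))

theorem kerN_normal : (kerN K).Normal := by
  constructor
  intro n hn g
  rw [Subgroup.mem_subgroupOf] at hn ⊢
  exact (Subgroup.mem_normalizer_iff.mp g.2 (n : G)).mp hn

theorem mem_kerN {n : ↥(Subgroup.normalizer (K : Set G))} : n ∈ kerN K ↔ (n : G) ∈ K :=
  Subgroup.mem_subgroupOf

/-- A character in `S` (irreducible on the normalizer `N` of `K`, with `K` not in its kernel)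
vanishes off `K` when `K` contains the centralizers of its non-identity elements. -/
theorem apply_eq_zero_of_notMem [Finite G]
    (hC : ∀ k ∈ K, k ≠ 1 → Subgroup.centralizer ({k} : Set G) ≤ K)
    {χ : ↥(Subgroup.normalizer (K : Set G)) → ℂ}
    (hχ : IsIrrCharacter ↥(Subgroup.normalizer (K : Set G)) χ)
    (hK : ∃ k : ↥(Subgroup.normalizer (K : Set G)), (k : G) ∈ K ∧ χ k ≠ χ 1)
    (g : ↥(Subgroup.normalizer (K : Set G))) (hg : (g : G) ∉ K) : χ g = 0 := by
  have := kerN_normal K
  refine apply_eq_zero (kerN K) hχ ?_ g ?_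
  · obtain ⟨k, hk, hne⟩ := hK
    exact ⟨k, (mem_kerN K).mpr hk, hne⟩
  · intro c hc hcg
    by_contra hc1
    apply hg
    have h1 : (c : G) ≠ 1 := by
      intro h
      exact hc1 (Subtype.ext h)
    refine hC (c : G) ((mem_kerN K).mp hc) h1 ?_
    rw [Subgroup.mem_centralizer_singleton_iff]
    have := congrArg (Subtype.val) hcg
    simpa using this.symm

/-- The sum over `K` of a character in `S` is zero. -/
theorem sum_kernel_eq_zero [Finite G] [Fintype ↥(kerN K)]
    {χ : ↥(Subgroup.normalizer (K : Set G)) → ℂ}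
    (hχ : IsIrrCharacter ↥(Subgroup.normalizer (K : Set G)) χ)
    (hK : ∃ k : ↥(Subgroup.normalizer (K : Set G)), (k : G) ∈ K ∧ χ k ≠ χ 1) :
    ∑ k : kerN K, χ (k : ↥(Subgroup.normalizer (K : Set G))) = 0 := by
  have := kerN_normal K
  obtain ⟨k, hk, hne⟩ := hK
  have h := sum_mul_eq_zero (kerN K) hχ ⟨k, (mem_kerN K).mpr hk, hne⟩ 1
  simpa using h

end normalizer

section coherence

variable [Fintype G] {L : Type*} [Group L] [Fintype L]

omit [Fintype L] in
/-- The combination `χ(1) ξ - ξ(1) χ` of two members of `S` lies in the span of `S` and vanishes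
at the identity; the image under a linear isometry `star` is the same combination of
images. -/
theorem comb_mem_zspanOn {S : Set (L → ℂ)} {χ ξ : L → ℂ} (hχ : χ ∈ S) (hξ : ξ ∈ S)
    (hn : ∃ n : ℕ, χ 1 = n) (hm : ∃ m : ℕ, ξ 1 = m) :
    (fun x => χ 1 * ξ x - ξ 1 * χ x) ∈ zspanOn S ({1}ᶜ : Set L) := by
  obtain ⟨n, hn⟩ := hn
  obtain ⟨m, hm⟩ := hm
  refine ⟨?_, ?_⟩
  · have h : (fun x => χ 1 * ξ x - ξ 1 * χ x) = (n : ℤ) • ξ - (m : ℤ) • χ := by
      funext x
      simp [hn, hm]
    rw [h]
    exact Submodule.sub_mem _ (Submodule.smul_mem _ _ (Submodule.subset_span hξ))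
      (Submodule.smul_mem _ _ (Submodule.subset_span hχ))
  · intro x hx
    have hx1 : x = 1 := by simpa using hx
    subst hx1
    show χ 1 * ξ 1 - ξ 1 * χ 1 = 0
    ring

theorem star_comb {S : Set (L → ℂ)} {star : (L → ℂ) → (G → ℂ)}
    (hstar : IsLinearIsometryOn (zspan S) star) {χ ξ : L → ℂ} (hχ : χ ∈ S) (hξ : ξ ∈ S)
    (hn : ∃ n : ℕ, χ 1 = n) (hm : ∃ m : ℕ, ξ 1 = m) :
    star (fun x => χ 1 * ξ x - ξ 1 * χ x) = fun g => χ 1 * star ξ g - ξ 1 * star χ g := by
  obtain ⟨n, hn⟩ := hn
  obtain ⟨m, hm⟩ := hm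
  have h : (fun x => χ 1 * ξ x - ξ 1 * χ x) = (n : ℤ) • ξ + (-(m : ℤ)) • χ := by
    funext x
    simp [hn, hm]
    ring
  have hχ' : χ ∈ zspan S := Submodule.subset_span hχ
  have hξ' : ξ ∈ zspan S := Submodule.subset_span hξ
  have h1 : (n : ℤ) • ξ ∈ zspan S := Submodule.smul_mem _ _ hξ'
  have h2 : (-(m : ℤ)) • χ ∈ zspan S := Submodule.smul_mem _ _ hχ'
  rw [h, hstar.1 _ h1 _ h2, hstar.2.1 _ hξ', hstar.2.1 _ hχ']
  funext g
  simp [hn, hm]
  ring

theorem classInner_comb (a b : ℂ) (φ₁ φ₂ ψ : G → ℂ) :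
    classInner (fun g => a * φ₁ g - b * φ₂ g) ψ = a * classInner φ₁ ψ - b * classInner φ₂ ψ := by
  have h : (fun g => a * φ₁ g - b * φ₂ g) = a • φ₁ - b • φ₂ := by
    funext g
    simp
  rw [h, Characters.Core.classInner_sub_left, Characters.Core.classInner_smul_left,
    Characters.Core.classInner_smul_left]

end coherence

end Cfsg.Agent.CharactersDeep.Tifn
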