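import Mathlib
import Cfsg.Prelude.Def_Characters
import Cfsg.Agent.Characters.Core
import Cfsg.Agent.Characters.Values
import Cfsg.Agent.Characters.CentralCharacter
import Cfsg.Agent.Characters.GaloisBasic
import Cfsg.Agent.CharactersDeep.NormalInd
import Cfsg.Agent.S0158
set_option linter.all false

/-!
# Auxiliary facts on characters for the odd case of Feit's theorem on Zassenhaus groups
-/

set_option autoImplicit false

open scoped ComplexConjugate
open Cfsg

namespace Cfsg.Agent.CharactersDeep.FeitOddAux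

open Cfsg.Agent.Characters

/-- a sum of square roots of one is an integer congruent to the number of terms modulo two -/
theorem exists_int_of_sq_eq_one (s : Multiset ℂ) (hs : ∀ z ∈ s, z ^ 2 = 1) :
    ∃ x : ℤ, s.sum = x ∧ Even (x - Multiset.card s) := by
  induction s using Multiset.induction_on with
  | empty => exact ⟨0, by simp, by simp⟩
  | cons a s ih =>
    obtain ⟨x, hx, hx'⟩ := ih (fun z hz => hs z (Multiset.mem_cons_of_mem hz))
    have ha := hs a (Multiset.mem_cons_self a s)
    rw [Multiset.sum_cons, hx, Multiset.card_cons]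
    obtain ⟨k, hk⟩ := hx'
    rcases sq_eq_one_iff.1 ha with h | h
    · exact ⟨1 + x, by rw [h]; push_cast; ring, k, by push_cast; omega⟩
    · exact ⟨-1 + x, by rw [h]; push_cast; ring, k - 1, by push_cast; omega⟩

variable {G : Type*} [Group G]

/-- The value of a character at an involution is an integer congruent to the degree modulo two. -/
theorem exists_int_apply [Finite G] {χ : G → ℂ} (hχ : IsIrrCharacter G χ) {t : G}
    (ht : orderOf t = 2) : ∃ x : ℤ, χ t = x ∧ ∀ d : ℕ, χ 1 = d → Even (x - d) := by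
  obtain ⟨n, ρ, hρ, rfl⟩ := hχ
  obtain ⟨x, hx, hx'⟩ := exists_int_of_sq_eq_one (ρ t).charpoly.roots
    (fun z hz => by
      have := Values.rep_root_pow_orderOf ρ t hz
      rwa [ht] at this)
  refine ⟨x, ?_, ?_⟩
  · rw [Values.character_eq_sum_roots, hx]
  · intro d hd
    have h1 : ρ.character 1 = (Module.finrank ℂ (Fin n → ℂ) : ℂ) := Representation.char_one ρ
    rw [h1] at hd
    have h2 : Module.finrank ℂ (Fin n → ℂ) = d := by exact_mod_cast hd
    rw [Values.card_roots_charpoly (ρ t), h2] at hx'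
    exact hx'

/-- The Frobenius-Schur indicator. -/
theorem exists_indicator [Fintype G] {χ : G → ℂ} (hχ : IsIrrCharacter G χ) :
    ∃ n : ℤ, (n = 0 ∨ n = 1 ∨ n = -1) ∧ (Nat.card G : ℂ)⁻¹ * ∑ s : G, χ (s * s) = n ∧
      (n = 0 ↔ ∃ g, (χ g).im ≠ 0) := by
  obtain ⟨m, ρ, hρ, rfl⟩ := hχ
  have : ρ.IsIrreducible := hρ
  obtain ⟨h1, h2⟩ := Cfsg.Agent.S0158.result ρ
  rcases h1 with h | h | h
  · refine ⟨0, Or.inl rfl, by rw [h]; simp, ?_⟩
    simp only [true_iff]
    exact h2.1 h
  · refine ⟨1, Or.inr (Or.inl rfl), by rw [h]; simp, ?_⟩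
    rw [h] at h2
    simp only [one_ne_zero, false_iff] at h2 ⊢
    exact h2
  · refine ⟨-1, Or.inr (Or.inr rfl), by rw [h]; simp, ?_⟩
    rw [h] at h2
    simp only [neg_eq_zero, one_ne_zero, false_iff] at h2 ⊢
    exact h2

/-- Divisibility from the integrality of central characters. -/
theorem degree_dvd_card_mul [Finite G] {χ : G → ℂ} (hχ : IsIrrCharacter G χ) {t : G} {d m : ℕ}
    (hd : χ 1 = d) (hm : Nat.card {x : G // IsConj t x} = m) {x : ℤ} (hx : χ t = x) :
    (d : ℤ) ∣ m * x := by
  obtain ⟨n, ρ, hρ, rfl⟩ := hχ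
  have : ρ.IsIrreducible := hρ
  have h1 := CentralCharacter.isIntegral_index_mul_character_div ρ t
  have h2 : ρ.character 1 = (Module.finrank ℂ (Fin n → ℂ) : ℂ) := Representation.char_one ρ
  have hd0 : (d : ℂ) ≠ 0 := by
    rw [← hd]
    exact Core.isIrr_apply_one_ne_zero ⟨n, ρ, hρ, rfl⟩
  rw [CentralCharacter.index_centralizer_eq_card, hm, hx, ← h2, hd] at h1
  obtain ⟨z, hz⟩ := GaloisBasic.exists_int_of_isIntegral h1 ⟨(m * x / d : ℚ), by push_cast; rfl⟩
  refine ⟨z, ?_⟩
  rw [div_eq_iff hd0] at hz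
  have h3 : ((m * x : ℤ) : ℂ) = ((z * d : ℤ) : ℂ) := by
    push_cast
    exact hz
  have h4 : (m * x : ℤ) = z * d := by exact_mod_cast h3
  rw [h4, mul_comm]

/-- Sum over squares of a function induced from a function with support in a subgroup of odd
order that contains the centralizers of its non-identity elements. -/
theorem sum_indFun_sq [Fintype G] (K N : Subgroup G) (hKN : K ≤ N)
    (hC : ∀ k ∈ K, k ≠ 1 → Subgroup.centralizer ({k} : Set G) ≤ K) (hodd : Odd (Nat.card K))
    [Fintype N] (α : N → ℂ) (hα : ∀ x : N, (x : G) ∉ K → α x = 0) (hα1 : α 1 = 0) :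
    (Nat.card G : ℂ)⁻¹ * ∑ s : G, indFun N α (s * s) = (Nat.card N : ℂ)⁻¹ * ∑ x : N, α x := by
  classical
  have hcop : (Nat.card K).Coprime 2 := (Nat.coprime_two_right (n := Nat.card K)).2 hodd
  have hG : (Nat.card G : ℂ) ≠ 0 := Core.card_ne_zero_complex
  have h1 : ∑ s : G, indFun N α (s * s) =
      (Nat.card N : ℂ)⁻¹ * ∑ x : G, ∑ s : G, extendByZero N α (x⁻¹ * (s * s) * x) := by
    simp only [NormalInd.indFun_apply]
    rw [← Finset.mul_sum, Finset.sum_comm]
  have h2 : ∀ x : G, ∑ s : G, extendByZero N α (x⁻¹ * (s * s) * x) =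
      ∑ s : G, extendByZero N α (s * s) := by
    intro x
    refine Fintype.sum_equiv (MulAut.conj x⁻¹).toEquiv _ _ (fun s => ?_)
    congr 1
    show x⁻¹ * (s * s) * x = (x⁻¹ * s * x⁻¹⁻¹) * (x⁻¹ * s * x⁻¹⁻¹)
    group
  rw [h1, Finset.sum_congr rfl (fun x _ => h2 x), Finset.sum_const, Finset.card_univ,
    ← Nat.card_eq_fintype_card, nsmul_eq_mul]
  have h3 : ∑ s : G, extendByZero N α (s * s) = ∑ x : N, α x := by
    have hoff : ∀ s : G, s ∉ K → extendByZero N α s = 0 := by
      intro s hs
      by_cases hsN : s ∈ N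
      · rw [NormalInd.extendByZero_of_mem N α hsN]
        exact hα ⟨s, hsN⟩ hs
      · exact NormalInd.extendByZero_of_not_mem N α hsN
    have e1 : ∑ s : G, extendByZero N α (s * s) = ∑ k : K, extendByZero N α ((k : G) * k) := by
      rw [← Fintype.sum_subtype_add_sum_subtype (fun s => s ∈ K)
        (fun s : G => extendByZero N α (s * s))]
      rw [Finset.sum_eq_zero (s := (Finset.univ : Finset {x : G // ¬ x ∈ K})) (fun s _ => ?_),
        add_zero]
      by_cases h4 : (s : G) * s ∈ K
      · by_cases h5 : (s : G) * s = 1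
        · rw [h5]
          have h6 := NormalInd.extendByZero_of_mem N α N.one_mem
          rw [h6]
          exact hα1
        · exfalso
          apply s.2
          apply hC _ h4 h5
          rw [Subgroup.mem_centralizer_singleton_iff, mul_assoc]
      · exact hoff _ h4
    have e2 : ∑ k : K, extendByZero N α ((k : G) * k) = ∑ k : K, extendByZero N α (k : G) :=
      Fintype.sum_equiv (powCoprime hcop) _ _ (fun k => by
        rw [powCoprime_apply, pow_two]
        rfl)
    have e3 : ∑ k : K, extendByZero N α (k : G) = ∑ s : G, extendByZero N α s := by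
      rw [← Fintype.sum_subtype_add_sum_subtype (fun s => s ∈ K) (fun s : G => extendByZero N α s)]
      rw [Finset.sum_eq_zero (s := (Finset.univ : Finset {x : G // ¬ x ∈ K}))
        (fun s _ => hoff _ s.2), add_zero]
    rw [e1, e2, e3, NormalInd.sum_extendByZero]
  rw [h3]
  field_simp

end Cfsg.Agent.CharactersDeep.FeitOddAux
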