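import Mathlib
import Cfsg.Prelude.Def_LieExceptional
set_option linter.all false

/-!
Basic facts on Zassenhaus groups (`Cfsg.IsZassenhausGroup`): two-transitivity, two-point stabilisers,
the regular normal subgroup `H` of a point stabiliser, normalisers.
-/

set_option autoImplicit false

namespace Cfsg.Agent.CharactersDeep.Zassenhaus

open MulAction

variable {G Ω : Type*} [Group G] [MulAction G Ω]

/-- two-transitivity of a Zassenhaus group -/
theorem exists_smul_pair (hZ : Cfsg.IsZassenhausGroup G Ω) {a b c d : Ω} (hab : a ≠ b)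
    (hcd : c ≠ d) : ∃ g : G, g • a = c ∧ g • b = d :=
  is_two_pretransitive_iff.1 hZ.2.1 hab hcd

/-- an element of a Zassenhaus group fixing three points is trivial -/
theorem eq_one_of_fix (hZ : Cfsg.IsZassenhausGroup G Ω) {g : G} {a b c : Ω} (hab : a ≠ b)
    (hac : a ≠ c) (hbc : b ≠ c) (ha : g • a = a) (hb : g • b = b) (hc : g • c = c) : g = 1 :=
  hZ.2.2.1 g a b c hab hbc hac ha hb hc

/-- two-point stabilisers of a Zassenhaus group are nontrivial -/
theorem exists_ne_one_fix (hZ : Cfsg.IsZassenhausGroup G Ω) {a b : Ω} (hab : a ≠ b) :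
    ∃ g : G, g ≠ 1 ∧ g • a = a ∧ g • b = b := by
  obtain ⟨g, hg, c, d, hcd, hc, hd⟩ := hZ.2.2.2.1
  obtain ⟨x, hx, hx'⟩ := exists_smul_pair hZ hcd hab
  refine ⟨x * g * x⁻¹, ?_, ?_, ?_⟩
  · intro h
    apply hg
    have h2 : x * g * x⁻¹ = x * 1 * x⁻¹ := by rw [h]; group
    exact mul_left_cancel (mul_right_cancel h2)
  · rw [← hx, mul_smul, mul_smul, inv_smul_smul, hc]
  · rw [← hx', mul_smul, mul_smul, inv_smul_smul, hd]

/-- an element fixing all points is trivial -/
theorem eq_one_of_forall_smul (hZ : Cfsg.IsZassenhausGroup G Ω) {g : G} (h : ∀ c : Ω, g • c = c) :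
    g = 1 := by
  have := hZ.1
  exact FaithfulSMul.eq_of_smul_eq_smul (α := Ω) (fun c => by rw [h c, one_smul])

/-- there is a third point -/
theorem exists_third (hZ : Cfsg.IsZassenhausGroup G Ω) {a b : Ω} (hab : a ≠ b) :
    ∃ c : Ω, c ≠ a ∧ c ≠ b := by
  by_contra hcon
  push Not at hcon
  obtain ⟨g, hg, ha, hb⟩ := exists_ne_one_fix hZ hab
  apply hg
  apply eq_one_of_forall_smul hZ
  intro c
  by_cases hca : c = a
  · rw [hca, ha]
  · rw [hcon c hca, hb]

/-- there are two distinct points -/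
theorem exists_ne (hZ : Cfsg.IsZassenhausGroup G Ω) (a : Ω) : ∃ b : Ω, a ≠ b := by
  obtain ⟨g, hg, c, d, hcd, hc, hd⟩ := hZ.2.2.2.1
  by_cases hac : a = c
  · exact ⟨d, by rw [hac]; exact hcd⟩
  · exact ⟨c, hac⟩

theorem isPretransitive (hZ : Cfsg.IsZassenhausGroup G Ω) : IsPretransitive G Ω := by
  have := hZ.2.1
  exact isPretransitive_of_is_two_pretransitive

theorem three_le_card [Fintype Ω] (hZ : Cfsg.IsZassenhausGroup G Ω) : 3 ≤ Fintype.card Ω := by
  obtain ⟨g, hg, a, b, hab, -, -⟩ := hZ.2.2.2.1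
  obtain ⟨c, hca, hcb⟩ := exists_third hZ hab
  have h : 2 < Fintype.card Ω := by
    rw [Fintype.two_lt_card_iff]
    exact ⟨a, b, c, hab, hca.symm, hcb.symm⟩
  exact h

section kernel

variable [Finite G] [Fintype Ω] (hZ : Cfsg.IsZassenhausGroup G Ω) (a : Ω) (H : Subgroup G)
    (hHa : H ≤ MulAction.stabilizer G a) (hHcard : Nat.card H + 1 = Fintype.card Ω)
    (hHfix : ∀ u ∈ H, u ≠ 1 → ∀ c : Ω, u • c = c → c = a)

omit [Finite G] in
include hHa hHcard hHfix in
/-- the subgroup `H` is transitive on the points other than `a` -/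
theorem kernel_transitive {b c : Ω} (hb : b ≠ a) (hc : c ≠ a) : ∃ u ∈ H, u • b = c := by
  classical
  have hne : ∀ u : H, (u : G) • b ≠ a := by
    intro u hu
    apply hb
    have h1 : (u : G) • a = a := hHa u.2
    exact (MulAction.injective (u : G)) (hu.trans h1.symm)
  let f : H → {x : Ω // x ≠ a} := fun u => ⟨(u : G) • b, hne u⟩
  have hf : Function.Injective f := by
    intro u v huv
    have h1 : (u : G) • b = (v : G) • b := congrArg Subtype.val huv
    by_contra hne'
    have h2 : ((v⁻¹ * u : H) : G) ≠ 1 := by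
      intro h
      apply hne'
      have : v⁻¹ * u = 1 := Subtype.ext h
      exact (inv_mul_eq_one.1 this).symm
    have h3 : ((v⁻¹ * u : H) : G) • b = b := by
      rw [Subgroup.coe_mul, Subgroup.coe_inv, mul_smul, h1, inv_smul_smul]
    exact hb (hHfix _ (v⁻¹ * u : H).2 h2 b h3)
  have hcard : Nat.card H = Nat.card {x : Ω // x ≠ a} := by
    have h1 : Fintype.card {x : Ω // x ≠ a} = Fintype.card Ω - 1 := by
      rw [Fintype.card_subtype_compl, Fintype.card_subtype_eq]
    rw [Nat.card_eq_fintype_card (α := {x : Ω // x ≠ a}), h1]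
    omega
  have hbij : Function.Bijective f := (Nat.bijective_iff_injective_and_card f).2 ⟨hf, hcard⟩
  obtain ⟨u, hu⟩ := hbij.2 ⟨c, hc⟩
  exact ⟨u, u.2, congrArg Subtype.val hu⟩

include hZ hHa hHcard hHfix in
/-- the subgroup `H` consists of the identity and the elements whose only fixed point is `a` -/
theorem mem_kernel_iff {g : G} :
    g ∈ H ↔ g • a = a ∧ (g ≠ 1 → ∀ c : Ω, g • c = c → c = a) := by
  classical
  constructor
  · intro hg
    exact ⟨hHa hg, hHfix g hg⟩
  · rintro ⟨hga, hfix⟩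
    by_cases hg1 : g = 1
    · rw [hg1]; exact H.one_mem
    have hfix := hfix hg1
    by_contra hgH
    have hgb : ∀ b : {x : Ω // x ≠ a}, g • (b : Ω) ≠ a := by
      intro b hb
      exact b.2 ((MulAction.injective g) (hb.trans hga.symm))
    have hex : ∀ b : {x : Ω // x ≠ a}, ∃ u : H, (u : G) • (b : Ω) = g • (b : Ω) := by
      intro b
      obtain ⟨u, hu, hub⟩ := kernel_transitive a H hHa hHcard hHfix b.2 (hgb b)
      exact ⟨⟨u, hu⟩, hub⟩
    choose h hh using hex
    have hinj : Function.Injective h := by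
      intro b c hbc
      by_contra hne
      apply hgH
      have hne' : (b : Ω) ≠ c := fun h => hne (Subtype.ext h)
      have h1 : ((h b : G))⁻¹ * g = 1 := by
        apply eq_one_of_fix hZ (a := a) (b := (b : Ω)) (c := (c : Ω)) b.2.symm c.2.symm hne'
        · rw [mul_smul, hga, inv_smul_eq_iff]
          exact (hHa (h b).2).symm
        · rw [mul_smul, inv_smul_eq_iff, hh b]
        · rw [mul_smul, inv_smul_eq_iff, hbc, hh c]
      have h2 : g = h b := (inv_mul_eq_one.1 h1).symm
      rw [h2]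
      exact (h b).2
    have hcard : Nat.card {x : Ω // x ≠ a} = Nat.card H := by
      have h1 : Fintype.card {x : Ω // x ≠ a} = Fintype.card Ω - 1 := by
        rw [Fintype.card_subtype_compl, Fintype.card_subtype_eq]
      rw [Nat.card_eq_fintype_card (α := {x : Ω // x ≠ a}), h1]
      omega
    have hbij : Function.Bijective h := (Nat.bijective_iff_injective_and_card h).2 ⟨hinj, hcard⟩
    obtain ⟨b, hb⟩ := hbij.2 1
    have h3 := hh b
    rw [hb, Subgroup.coe_one, one_smul] at h3
    exact b.2 (hfix b h3.symm)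

omit [Finite G] [Fintype Ω] in
include hHfix in
/-- conjugates of `H` by elements outside the point stabiliser meet `H` trivially -/
theorem kernel_ti {g : G} (hg : g ∉ MulAction.stabilizer G a) {u : G} (hu : u ∈ H) 
    (hHa : H ≤ MulAction.stabilizer G a) (hgu : g * u * g⁻¹ ∈ H) : u = 1 := by
  by_contra hu1
  apply hg
  have h1 : g * u * g⁻¹ ≠ 1 := by
    intro h
    apply hu1
    have h2 : g * u * g⁻¹ = g * 1 * g⁻¹ := by rw [h]; group
    exact mul_left_cancel (mul_right_cancel h2)
  have h2 : (g * u * g⁻¹) • (g • a) = g • a := by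
    rw [mul_smul, mul_smul, inv_smul_smul, show u • a = a from hHa hu]
  exact hHfix _ hgu h1 _ h2

omit [Finite G] in
include hZ hHcard in
/-- `H` is nontrivial -/
theorem kernel_ne_bot : H ≠ ⊥ := by
  intro h
  have h3 := three_le_card hZ
  rw [h] at hHcard
  simp only [Subgroup.card_bot] at hHcard
  omega

include hZ hHa hHcard hHfix in
/-- the normaliser of `H` is the point stabiliser -/
theorem kernel_normalizer :
    Subgroup.normalizer (H : Set G) = MulAction.stabilizer G a := by
  apply le_antisymm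
  · intro g hg
    by_contra hga
    apply kernel_ne_bot hZ H hHcard
    rw [eq_bot_iff]
    intro u hu
    rw [Subgroup.mem_bot]
    exact kernel_ti a H hHfix hga hu hHa (((Subgroup.mem_normalizer_iff).1 hg u).1 hu)
  · have key : ∀ g ∈ MulAction.stabilizer G a, ∀ u ∈ H, g * u * g⁻¹ ∈ H := by
      intro g hg u hu
      have hga : g • a = a := hg
      rw [mem_kernel_iff hZ a H hHa hHcard hHfix] at hu ⊢
      obtain ⟨h1, h2⟩ := hu
      refine ⟨?_, ?_⟩
      · rw [mul_smul, mul_smul, inv_smul_eq_iff.2 hga.symm, h1, hga]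
      · intro hne c hc
        have hu1 : u ≠ 1 := by
          rintro rfl
          apply hne
          group
        have h3 : u • (g⁻¹ • c) = g⁻¹ • c := by
          rw [mul_smul, mul_smul] at hc
          rw [eq_inv_smul_iff]
          exact hc
        have h4 := h2 hu1 _ h3
        rw [inv_smul_eq_iff] at h4
        rw [h4, hga]
    intro g hg
    rw [Subgroup.mem_normalizer_iff]
    intro u
    refine ⟨key g hg u, ?_⟩
    intro h
    have := key g⁻¹ (Subgroup.inv_mem _ hg) _ h
    have h2 : g⁻¹ * (g * u * g⁻¹) * g⁻¹⁻¹ = u := by group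
    rwa [h2] at this

end kernel

section twopoint

/-- elements of a two-point stabiliser -/
theorem mem_two (a b : Ω) (x : G) :
    x ∈ (MulAction.stabilizer G a ⊓ MulAction.stabilizer G b : Subgroup G) ↔
      x • a = a ∧ x • b = b := Iff.rfl

/-- a non-identity element fixing `a` and `b` fixes only these -/
theorem eq_or_eq_of_fix (hZ : Cfsg.IsZassenhausGroup G Ω) {a b : Ω} (hab : a ≠ b) {x : G}
    (hx : x ≠ 1) (hxa : x • a = a) (hxb : x • b = b) {c : Ω} (hc : x • c = c) :
    c = a ∨ c = b := by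
  by_contra hcon
  push Not at hcon
  exact hx (eq_one_of_fix hZ hab hcon.1.symm hcon.2.symm hxa hxb hc)

/-- an element conjugating a non-identity element of the two-point stabiliser into the two-point
stabiliser preserves the pair -/
theorem pair_of_conj (hZ : Cfsg.IsZassenhausGroup G Ω) {a b : Ω} (hab : a ≠ b) {g x : G}
    (hx1 : x ≠ 1) (hx : x ∈ (MulAction.stabilizer G a ⊓ MulAction.stabilizer G b : Subgroup G))
    (hgx : g * x * g⁻¹ ∈ (MulAction.stabilizer G a ⊓ MulAction.stabilizer G b : Subgroup G)) :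
    (g • a = a ∧ g • b = b) ∨ (g • a = b ∧ g • b = a) := by
  rw [mem_two] at hx hgx
  obtain ⟨hxa, hxb⟩ := hx
  obtain ⟨hga, hgb⟩ := hgx
  have h1 : g * x * g⁻¹ ≠ 1 := by
    intro h
    apply hx1
    have h2 : g * x * g⁻¹ = g * 1 * g⁻¹ := by rw [h]; group
    exact mul_left_cancel (mul_right_cancel h2)
  have h2 : (g * x * g⁻¹) • (g • a) = g • a := by
    rw [mul_smul, mul_smul, inv_smul_smul, hxa]
  have h3 : (g * x * g⁻¹) • (g • b) = g • b := by
    rw [mul_smul, mul_smul, inv_smul_smul, hxb]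
  have h4 : g • a ≠ g • b := fun h => hab (MulAction.injective g h)
  rcases eq_or_eq_of_fix hZ hab h1 hga hgb h2 with h5 | h5 <;>
  rcases eq_or_eq_of_fix hZ hab h1 hga hgb h3 with h6 | h6
  · exact absurd (h5.trans h6.symm) h4
  · exact Or.inl ⟨h5, h6⟩
  · exact Or.inr ⟨h5, h6⟩
  · exact absurd (h5.trans h6.symm) h4

/-- membership in the normaliser of a two-point stabiliser -/
theorem mem_normalizer_two_iff (hZ : Cfsg.IsZassenhausGroup G Ω) {a b : Ω} (hab : a ≠ b) {g : G} :
    g ∈ Subgroup.normalizer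
      ((MulAction.stabilizer G a ⊓ MulAction.stabilizer G b : Subgroup G) : Set G) ↔
    (g • a = a ∧ g • b = b) ∨ (g • a = b ∧ g • b = a) := by
  constructor
  · intro hg
    obtain ⟨x, hx1, hxa, hxb⟩ := exists_ne_one_fix hZ hab
    have hx : x ∈ (MulAction.stabilizer G a ⊓ MulAction.stabilizer G b : Subgroup G) := ⟨hxa, hxb⟩
    exact pair_of_conj hZ hab hx1 hx ((Subgroup.mem_normalizer_iff.1 hg x).1 hx)
  · have key : ∀ g : G, ((g • a = a ∧ g • b = b) ∨ (g • a = b ∧ g • b = a)) → 
        ∀ x ∈ (MulAction.stabilizer G a ⊓ MulAction.stabilizer G b : Subgroup G),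
        g * x * g⁻¹ ∈ (MulAction.stabilizer G a ⊓ MulAction.stabilizer G b : Subgroup G) := by
      rintro g (⟨h1, h2⟩ | ⟨h1, h2⟩) x ⟨hxa, hxb⟩
      · have hxa : x • a = a := hxa
        have hxb : x • b = b := hxb
        rw [mem_two]
        constructor
        · rw [mul_smul, mul_smul, inv_smul_eq_iff.2 h1.symm, hxa, h1]
        · rw [mul_smul, mul_smul, inv_smul_eq_iff.2 h2.symm, hxb, h2]
      · have hxa : x • a = a := hxa
        have hxb : x • b = b := hxb
        rw [mem_two]
        constructor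
        · rw [mul_smul, mul_smul, inv_smul_eq_iff.2 h2.symm, hxb, h2]
        · rw [mul_smul, mul_smul, inv_smul_eq_iff.2 h1.symm, hxa, h1]
    intro hg
    rw [Subgroup.mem_normalizer_iff]
    intro x
    refine ⟨key g hg x, ?_⟩
    intro h
    have hg' : (g⁻¹ • a = a ∧ g⁻¹ • b = b) ∨ (g⁻¹ • a = b ∧ g⁻¹ • b = a) := by
      rcases hg with ⟨h1, h2⟩ | ⟨h1, h2⟩
      · exact Or.inl ⟨inv_smul_eq_iff.2 h1.symm, inv_smul_eq_iff.2 h2.symm⟩
      · exact Or.inr ⟨inv_smul_eq_iff.2 h2.symm, inv_smul_eq_iff.2 h1.symm⟩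
    have := key g⁻¹ hg' _ h
    have h2 : g⁻¹ * (g * x * g⁻¹) * g⁻¹⁻¹ = x := by group
    rwa [h2] at this

end twopoint

end Cfsg.Agent.CharactersDeep.Zassenhaus
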