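import Mathlib
import Cfsg.Prelude.Def_LieExceptional
import Cfsg.Agent.CharactersDeep.Zassenhaus
set_option linter.all false

/-!
# Transfer from a point stabiliser in a Zassenhaus group

* `transfer_eq_prod_section` : the transfer computed with an arbitrary section
* `two_point_card_dvd` : `|G_{a,b}|` divides `|Ω| - 2`
* `transfer_two_point` : for a homomorphism `ϕ` of `G_a` to a commutative group that is trivial on
  the Frobenius kernel, and `t • a = b`, the transfer of `ϕ` at `g ∈ G_{a,b}` is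
  `ϕ g * ϕ (t⁻¹ g t) ^ (n - 1)`
* `eq_one_of_conj_eq` : for `G` simple and `|G_{a,b}|` odd, if `ϕ (t⁻¹ g t) = ϕ g` on `G_{a,b}` for
  some `t` with `t • a = b`, then `ϕ = 1`.
-/

set_option autoImplicit false

namespace Cfsg.Agent.CharactersDeep.ZassenhausTransfer

open MulAction Cfsg.Agent.CharactersDeep.Zassenhaus

/-- The transfer computed with an arbitrary section of `G → G ⧸ N`. -/
theorem transfer_eq_prod_section {G A : Type*} [Group G] [CommGroup A] {N : Subgroup G}
    [N.FiniteIndex] [hf : Fintype (G ⧸ N)] (ϕ : N →* A) (s : G ⧸ N → G)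
    (hs : ∀ q : G ⧸ N, ((s q : G) : G ⧸ N) = q) (g : G)
    (hmem : ∀ q : G ⧸ N, (s q)⁻¹ * (g * s (g⁻¹ • q)) ∈ N) :
    MonoidHom.transfer ϕ g = ∏ q : G ⧸ N, ϕ ⟨(s q)⁻¹ * (g * s (g⁻¹ • q)), hmem q⟩ := by
  classical
  obtain rfl : hf = N.fintypeQuotientOfFiniteIndex := Subsingleton.elim _ _
  rw [MonoidHom.transfer_def ϕ ⟨Set.range s, Subgroup.isComplement_range_left hs⟩ g,
    Subgroup.leftTransversals.diff]
  refine Finset.prod_congr rfl fun q _ => ?_
  congr 1
  apply Subtype.ext
  have h1 : ∀ q : G ⧸ N,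
      (((⟨Set.range s, Subgroup.isComplement_range_left hs⟩ : N.LeftTransversal).2.leftQuotientEquiv
        q : _) : G) = s q :=
    fun q => Subgroup.IsComplement.leftQuotientEquiv_apply hs q
  dsimp only
  rw [Subgroup.smul_apply_eq_smul_apply_inv_smul, smul_eq_mul, h1, h1]

variable {G Ω : Type*} [Group G] [MulAction G Ω]

/-- the order of a two-point stabiliser of a Zassenhaus group divides `|Ω| - 2` -/
theorem two_point_card_dvd [Finite G] [Finite Ω] (hZ : Cfsg.IsZassenhausGroup G Ω) {a b : Ω}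
    (hab : a ≠ b) :
    Nat.card ↥(stabilizer G a ⊓ stabilizer G b : Subgroup G) ∣ Nat.card Ω - 2 := by
  classical
  have := Fintype.ofFinite G
  have := Fintype.ofFinite Ω
  set E : Subgroup G := stabilizer G a ⊓ stabilizer G b with hE
  have hb := sum_card_fixedBy_eq_card_orbits_mul_card_group E Ω
  have h3 := three_le_card hZ
  have hval : ∀ x : E, Fintype.card (fixedBy Ω x) =
      2 + (if x = 1 then Fintype.card Ω - 2 else 0) := by
    intro x
    by_cases hx : x = 1
    · rw [if_pos hx]
      have : Fintype.card (fixedBy Ω x) = Fintype.card Ω := by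
        rw [Fintype.card_congr (Equiv.subtypeUnivEquiv _)]
        intro c
        rw [hx]
        exact one_smul _ _
      rw [this]
      omega
    · rw [if_neg hx]
      have hx1 : (x : G) ≠ 1 := fun h => hx (Subtype.ext h)
      have hxa : (x : G) • a = a := x.2.1
      have hxb : (x : G) • b = b := x.2.2
      have hset : fixedBy Ω x = ({a, b} : Finset Ω) := by
        ext c
        rw [mem_fixedBy]
        simp only [Finset.coe_insert, Finset.coe_singleton, Set.mem_insert_iff,
          Set.mem_singleton_iff]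
        constructor
        · intro hc
          exact eq_or_eq_of_fix hZ hab hx1 hxa hxb hc
        · rintro (rfl | rfl)
          · exact hxa
          · exact hxb
      have h2 : Fintype.card (fixedBy Ω x) = Fintype.card ({a, b} : Finset Ω) :=
        Fintype.card_congr (Equiv.setCongr hset)
      rw [h2, Fintype.card_coe, Finset.card_pair hab]
  rw [Finset.sum_congr rfl (fun x _ => hval x), Finset.sum_add_distrib, Finset.sum_const,
    Finset.card_univ, Finset.sum_ite_eq' Finset.univ (1 : E), if_pos (Finset.mem_univ _),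
    smul_eq_mul] at hb
  rw [Nat.card_eq_fintype_card, Nat.card_eq_fintype_card]
  have h4 : Fintype.card E ∣ Fintype.card E * 2 + (Fintype.card Ω - 2) := by
    rw [hb]
    exact Dvd.intro_left _ rfl
  exact (Nat.dvd_add_right (Dvd.intro _ rfl)).mp h4

section transfer

variable [Finite G] [Fintype Ω] (hZ : Cfsg.IsZassenhausGroup G Ω) {a b : Ω} (hab : a ≠ b)
    (H : Subgroup G)
    (hHa : H ≤ MulAction.stabilizer G a) (hHcard : Nat.card H + 1 = Fintype.card Ω)
    (hHfix : ∀ u ∈ H, u ≠ 1 → ∀ c : Ω, u • c = c → c = a)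

omit [Finite G] [Fintype Ω] in
include hHfix in
/-- elements of `H` are determined by the image of `b ≠ a` -/
theorem kernel_unique (hab : a ≠ b) {u v : G} (hu : u ∈ H) (hv : v ∈ H) (huv : u • b = v • b) :
    u = v := by
  by_contra hne
  have h1 : v⁻¹ * u ≠ 1 := by
    intro h
    exact hne (inv_mul_eq_one.1 h).symm
  have h2 : (v⁻¹ * u) • b = b := by
    rw [mul_smul, huv, inv_smul_smul]
  exact hab (hHfix _ (H.mul_mem (H.inv_mem hv) hu) h1 b h2).symm

include hZ hHa hHcard hHfix in
theorem conj_mem_kernel {g u : G} (hg : g • a = a) (hu : u ∈ H) : g * u * g⁻¹ ∈ H := by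
  have h := kernel_normalizer hZ a H hHa hHcard hHfix
  have hg' : g ∈ Subgroup.normalizer (H : Set G) := by
    rw [h]; exact hg
  exact ((Subgroup.mem_normalizer_iff).1 hg' u).1 hu

include hZ hab hHa hHcard hHfix in
/-- The transfer of a homomorphism of the point stabiliser evaluated on a two-point stabiliser. -/
theorem transfer_two_point {A : Type*} [CommGroup A] (ϕ : stabilizer G a →* A)
    {t : G} (ht : t • a = b) (g : G) (hga : g • a = a) (hgb : g • b = b)
    (hmem : t⁻¹ * g * t ∈ stabilizer G a) :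
    MonoidHom.transfer ϕ g = ϕ ⟨g, hga⟩ * ϕ ⟨t⁻¹ * g * t, hmem⟩ ^ (Fintype.card Ω - 1) := by
  classical
  have := Fintype.ofFinite G
  -- the point of a coset
  let pt : G ⧸ stabilizer G a → Ω := ofQuotientStabilizer G a
  have hpt_mk : ∀ x : G, pt (x : G ⧸ stabilizer G a) = x • a := fun x => rfl
  have hpt_smul : ∀ (x : G) (q : G ⧸ stabilizer G a), pt (x • q) = x • pt q := fun x q =>
    ofQuotientStabilizer_smul G a x q
  have hpt_inj : Function.Injective pt := injective_ofQuotientStabilizer G a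
  have hq1 : pt ((1 : G) : G ⧸ stabilizer G a) = a := one_smul _ _
  have hne : ∀ q : G ⧸ stabilizer G a, q ≠ ((1 : G) : G ⧸ stabilizer G a) → pt q ≠ a := by
    intro q hq h
    exact hq (hpt_inj (h.trans hq1.symm))
  have hex : ∀ q : G ⧸ stabilizer G a, ∃ u ∈ H, q ≠ ((1 : G) : G ⧸ stabilizer G a) → u • b = pt q := by
    intro q
    by_cases hq : q = ((1 : G) : G ⧸ stabilizer G a)
    · exact ⟨1, H.one_mem, fun h => absurd hq h⟩
    · obtain ⟨u, hu, hub⟩ := kernel_transitive a H hHa hHcard hHfix hab.symm (hne q hq)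
      exact ⟨u, hu, fun _ => hub⟩
  choose y hy hyb using hex
  let s : G ⧸ stabilizer G a → G := fun q => if q = ((1 : G) : G ⧸ stabilizer G a) then 1 else y q * t
  have hs : ∀ q : G ⧸ stabilizer G a, ((s q : G) : G ⧸ stabilizer G a) = q := by
    intro q
    apply hpt_inj
    rw [hpt_mk]
    by_cases hq : q = ((1 : G) : G ⧸ stabilizer G a)
    · simp only [s, if_pos hq]
      rw [one_smul, hq, hq1]
    · simp only [s, if_neg hq]
      rw [mul_smul, ht, hyb q hq]
  have hgq1 : g⁻¹ • ((1 : G) : G ⧸ stabilizer G a) = ((1 : G) : G ⧸ stabilizer G a) := by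
    apply hpt_inj
    rw [hpt_smul, hq1, inv_smul_eq_iff, hga]
  have hgq : ∀ q : G ⧸ stabilizer G a, q ≠ ((1 : G) : G ⧸ stabilizer G a) → g⁻¹ • q ≠ ((1 : G) : G ⧸ stabilizer G a) := by
    intro q hq h
    apply hq
    rw [inv_smul_eq_iff] at h
    rw [h]
    rw [← hgq1, smul_inv_smul, hgq1]
  have hval : ∀ q : G ⧸ stabilizer G a, q ≠ ((1 : G) : G ⧸ stabilizer G a) →
      (s q)⁻¹ * (g * s (g⁻¹ • q)) = t⁻¹ * g * t := by
    intro q hq
    simp only [s, if_neg hq, if_neg (hgq q hq)]
    have h1 : g * y (g⁻¹ • q) * g⁻¹ = y q := by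
      apply kernel_unique H hHfix hab
      · exact conj_mem_kernel hZ H hHa hHcard hHfix hga (hy _)
      · exact hy q
      · rw [mul_smul, mul_smul, inv_smul_eq_iff.2 hgb.symm, hyb _ (hgq q hq), hyb q hq, hpt_smul,
          smul_inv_smul]
    rw [← h1]
    group
  have hval1 : (s ((1 : G) : G ⧸ stabilizer G a))⁻¹ * (g * s (g⁻¹ • ((1 : G) : G ⧸ stabilizer G a))) = g := by
    rw [hgq1]
    simp only [s, if_true]
    simp
  have hmem' : ∀ q : G ⧸ stabilizer G a, (s q)⁻¹ * (g * s (g⁻¹ • q)) ∈ stabilizer G a := by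
    intro q
    by_cases hq : q = ((1 : G) : G ⧸ stabilizer G a)
    · rw [hq, hval1]; exact hga
    · rw [hval q hq]; exact hmem
  rw [transfer_eq_prod_section ϕ s hs g hmem',
    Fintype.prod_eq_mul_prod_compl ((1 : G) : G ⧸ stabilizer G a)]
  congr 1
  · congr 1
    exact Subtype.ext hval1
  · have hprod : ∀ q ∈ ({((1 : G) : G ⧸ stabilizer G a)} : Finset (G ⧸ stabilizer G a))ᶜ,
        ϕ ⟨(s q)⁻¹ * (g * s (g⁻¹ • q)), hmem' q⟩ = ϕ ⟨t⁻¹ * g * t, hmem⟩ := by
      intro q hq
      congr 1
      apply Subtype.ext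
      exact hval q (by simpa using hq)
    rw [Finset.prod_congr rfl hprod, Finset.prod_const, Finset.card_compl,
      Finset.card_singleton]
    congr 2
    have hpre := isPretransitive hZ
    have h5 : Fintype.card (G ⧸ stabilizer G a) = Fintype.card Ω := by
      refine Fintype.card_congr (Equiv.ofBijective pt ⟨hpt_inj, ?_⟩)
      intro c
      obtain ⟨x, hx⟩ := hpre.exists_smul_eq a c
      exact ⟨(x : G ⧸ stabilizer G a), hx⟩
    exact h5

omit [Finite G] [Fintype Ω] in
include hZ hab in
/-- a Zassenhaus group is not commutative -/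
theorem not_commutative : ¬ ∀ x y : G, x * y = y * x := by
  intro hcomm
  obtain ⟨g, hg1, hga, hgb⟩ := exists_ne_one_fix hZ hab
  apply hg1
  apply eq_one_of_forall_smul hZ
  intro c
  have := isPretransitive hZ
  obtain ⟨x, hx⟩ := exists_smul_eq G a c
  rw [← hx, ← mul_smul, hcomm g x, mul_smul, hga]

omit [Finite G] [Fintype Ω] in
include hZ hab in
/-- homomorphisms of a simple Zassenhaus group to a commutative group are trivial -/
theorem hom_eq_one [IsSimpleGroup G] {A : Type*} [CommGroup A] (f : G →* A) (g : G) : f g = 1 := by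
  rcases (inferInstance : f.ker.Normal).eq_bot_or_eq_top with h | h
  · exfalso
    apply not_commutative hZ hab
    intro x y
    apply (MonoidHom.ker_eq_bot_iff f).1 h
    rw [map_mul, map_mul, mul_comm]
  · have : g ∈ f.ker := by rw [h]; exact Subgroup.mem_top _
    exact this

include hZ hab hHa hHcard hHfix in
/-- In a simple Zassenhaus group with two-point stabilisers of odd order, a homomorphism of `G_a`
to a commutative group, trivial on the Frobenius kernel and with `ϕ (t⁻¹ g t) = ϕ g` for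
`g ∈ G_{a,b}`, where `t • a = b`, is trivial. -/
theorem eq_one_of_conj_eq [IsSimpleGroup G]
    (hodd : Odd (Nat.card ↥(MulAction.stabilizer G a ⊓ MulAction.stabilizer G b : Subgroup G)))
    {A : Type*} [CommGroup A] (ϕ : stabilizer G a →* A)
    (hϕ : ∀ u : stabilizer G a, (u : G) ∈ H → ϕ u = 1)
    {t : G} (ht : t • a = b)
    (hinv : ∀ (g : G) (hga : g • a = a) (_ : g • b = b) (hm : t⁻¹ * g * t ∈ stabilizer G a),
      ϕ ⟨g, hga⟩ = ϕ ⟨t⁻¹ * g * t, hm⟩) (x : stabilizer G a) : ϕ x = 1 := by
  classical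
  -- trivial on the two-point stabiliser
  have hE : ∀ (g : G) (hga : g • a = a) (_ : g • b = b), ϕ ⟨g, hga⟩ = 1 := by
    intro g hga hgb
    have hmem : t⁻¹ * g * t ∈ stabilizer G a := by
      rw [mem_stabilizer_iff, mul_smul, mul_smul, ht, hgb, inv_smul_eq_iff, ht]
    have h1 := transfer_two_point hZ hab H hHa hHcard hHfix ϕ ht g hga hgb hmem
    rw [hom_eq_one hZ hab, ← hinv g hga hgb hmem] at h1
    have h3 := three_le_card hZ
    have h2 : ϕ ⟨g, hga⟩ ^ (Fintype.card Ω) = 1 := by
      have h4 : Fintype.card Ω = (Fintype.card Ω - 1) + 1 := by omega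
      rw [h4, pow_succ', ← h1]
    have hgE : g ∈ (stabilizer G a ⊓ stabilizer G b : Subgroup G) := ⟨hga, hgb⟩
    have h5 : g ^ Nat.card ↥(stabilizer G a ⊓ stabilizer G b : Subgroup G) = 1 := by
      have := pow_card_eq_one' (x := (⟨g, hgE⟩ : (stabilizer G a ⊓ stabilizer G b : Subgroup G)))
      exact congrArg Subtype.val this
    have h6 : ϕ ⟨g, hga⟩ ^ Nat.card ↥(stabilizer G a ⊓ stabilizer G b : Subgroup G) = 1 := by
      rw [← map_pow]
      have : (⟨g, hga⟩ : stabilizer G a) ^ Nat.card ↥(stabilizer G a ⊓ stabilizer G b : Subgroup G)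
          = 1 := Subtype.ext h5
      rw [this, map_one]
    have hcop : Nat.Coprime (Fintype.card Ω)
        (Nat.card ↥(stabilizer G a ⊓ stabilizer G b : Subgroup G)) := by
      have hdvd := two_point_card_dvd hZ hab
      rw [Nat.card_eq_fintype_card (α := Ω)] at hdvd
      set e := Nat.card ↥(stabilizer G a ⊓ stabilizer G b : Subgroup G) with he
      have hg1 : Nat.gcd (Fintype.card Ω) e ∣ 2 := by
        have h7 : Nat.gcd (Fintype.card Ω) e ∣ Fintype.card Ω - 2 :=
          (Nat.gcd_dvd_right _ _).trans hdvd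
        have h8 : Nat.gcd (Fintype.card Ω) e ∣ Fintype.card Ω := Nat.gcd_dvd_left _ _
        have h9 : Fintype.card Ω = (Fintype.card Ω - 2) + 2 := by omega
        rw [h9] at h8
        have h10 : Nat.gcd (Fintype.card Ω) e ∣ (Fintype.card Ω - 2) + 2 := by
          rwa [← h9] at h8 ⊢
        exact (Nat.dvd_add_right h7).1 h10
      have hg2 : Nat.gcd (Fintype.card Ω) e ∣ e := Nat.gcd_dvd_right _ _
      rcases (Nat.dvd_prime Nat.prime_two).1 hg1 with h | h
      · exact h
      · rw [h] at hg2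
        exact absurd (even_iff_two_dvd.2 hg2) (Nat.not_even_iff_odd.2 hodd)
    have h7 := pow_gcd_eq_one.2 ⟨h2, h6⟩
    rw [hcop.gcd_eq_one, pow_one] at h7
    exact h7
  -- now decompose `x`
  obtain ⟨x, hx⟩ := x
  have hxa : x • a = a := hx
  have hxb : x • b ≠ a := by
    intro h
    exact hab ((MulAction.injective x) (h.trans hxa.symm)).symm
  obtain ⟨u, hu, hub⟩ := kernel_transitive a H hHa hHcard hHfix hab.symm hxb
  have hua : u • a = a := hHa hu
  have h1 : (u⁻¹ * x) • a = a := by
    rw [mul_smul, hxa, inv_smul_eq_iff, hua]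
  have h2 : (u⁻¹ * x) • b = b := by
    rw [mul_smul, ← hub, inv_smul_smul]
  have h3 : (⟨x, hx⟩ : stabilizer G a) = ⟨u, hHa hu⟩ * ⟨u⁻¹ * x, h1⟩ := by
    apply Subtype.ext
    simp
  rw [h3, map_mul, hϕ ⟨u, hHa hu⟩ hu, hE _ h1 h2, one_mul]

end transfer

end Cfsg.Agent.CharactersDeep.ZassenhausTransfer
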