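import Mathlib
import Cfsg.Prelude.Def_Characters
import Cfsg.Agent.Characters.Core
import Cfsg.Agent.Characters.Values
import Cfsg.Agent.Characters.Central
import Cfsg.Agent.CharactersDeep.SmallDegree
import Cfsg.Agent.Lib.Cores
import Cfsg.Agent.S0185
import Cfsg.Agent.S0898
set_option linter.all false

/-!
# Normal Sylow subgroups of linear groups of small degree (Feit–Thompson–Blichfeldt)

`PClosed p X` : products of `p`-elements of `X` are `p`-elements, i.e. the Sylow `p`-subgroups of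
the finite group `X` are normal.
-/

set_option autoImplicit false
open Cfsg

namespace Cfsg.Agent.CharactersDeep.NormalSylow

open Cfsg.Agent.Characters.Core
open scoped ComplexConjugate

/-- The `p`-elements are closed under multiplication. -/
def PClosed (p : ℕ) (X : Type*) [Group X] : Prop :=
  ∀ x y : X, (∃ k : ℕ, x ^ p ^ k = 1) → (∃ k : ℕ, y ^ p ^ k = 1) → ∃ k : ℕ, (x * y) ^ p ^ k = 1

/-- The subgroup of `p`-elements. -/
def pElts (p : ℕ) {X : Type*} [Group X] (h : PClosed p X) : Subgroup X where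
  carrier := {x | ∃ k : ℕ, x ^ p ^ k = 1}
  mul_mem' := fun {x y} hx hy => h x y hx hy
  one_mem' := ⟨0, one_pow _⟩
  inv_mem' := fun {x} ⟨k, hk⟩ => ⟨k, by rw [inv_pow, hk, inv_one]⟩

theorem mem_pElts {p : ℕ} {X : Type*} [Group X] {h : PClosed p X} {x : X} :
    x ∈ pElts p h ↔ ∃ k : ℕ, x ^ p ^ k = 1 := Iff.rfl

theorem pElts_isPGroup {p : ℕ} {X : Type*} [Group X] (h : PClosed p X) :
    IsPGroup p (pElts p h) := by
  rintro ⟨x, k, hk⟩
  exact ⟨k, Subtype.ext hk⟩

theorem pElts_normal {p : ℕ} {X : Type*} [Group X] (h : PClosed p X) : (pElts p h).Normal := by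
  constructor
  rintro x ⟨k, hk⟩ g
  exact ⟨k, by rw [conj_pow, hk, mul_one, mul_inv_cancel]⟩

theorem PClosed.sylow_eq {p : ℕ} {X : Type*} [Group X] (h : PClosed p X) (P : Sylow p X) :
    (P : Subgroup X) = pElts p h := by
  refine (P.is_maximal' (pElts_isPGroup h) ?_).symm
  intro x hx
  obtain ⟨k, hk⟩ := P.isPGroup' ⟨x, hx⟩
  exact ⟨k, congrArg Subtype.val hk⟩

theorem pclosed_of_sylow_normal {p : ℕ} [Fact p.Prime] {X : Type*} [Group X] [Finite X]
    (h : ∀ P : Sylow p X, (P : Subgroup X).Normal) : PClosed p X := by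
  obtain ⟨P⟩ := (inferInstance : Nonempty (Sylow p X))
  have hall : ∀ x : X, (∃ k : ℕ, x ^ p ^ k = 1) → x ∈ (P : Subgroup X) := by
    rintro x ⟨k, hk⟩
    have hz : IsPGroup p (Subgroup.zpowers x) := by
      rw [IsPGroup.iff_orderOf]
      rintro ⟨y, hy⟩
      obtain ⟨j, rfl⟩ := Subgroup.mem_zpowers_iff.1 hy
      have h1 : orderOf (⟨x ^ j, hy⟩ : Subgroup.zpowers x) ∣ p ^ k := by
        apply orderOf_dvd_of_pow_eq_one
        apply Subtype.ext
        show (x ^ j) ^ p ^ k = 1
        rw [← zpow_natCast, ← zpow_mul, mul_comm, zpow_mul, zpow_natCast, hk, one_zpow]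
      obtain ⟨i, _, hi⟩ := (Nat.dvd_prime_pow (Fact.out : p.Prime)).1 h1
      exact ⟨i, hi⟩
    obtain ⟨Q, hQ⟩ := hz.exists_le_sylow
    have := Sylow.unique_of_normal P (h P)
    have hPQ : Q = P := Subsingleton.elim _ _
    rw [← hPQ]
    exact hQ (Subgroup.mem_zpowers x)
  intro x y hx hy
  have h1 := (P : Subgroup X).mul_mem (hall x hx) (hall y hy)
  obtain ⟨k, hk⟩ := P.isPGroup' ⟨x * y, h1⟩
  exact ⟨k, congrArg Subtype.val hk⟩

theorem PClosed.sylow_normal {p : ℕ} {X : Type*} [Group X] (h : PClosed p X) (P : Sylow p X) :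
    (P : Subgroup X).Normal := by
  rw [h.sylow_eq P]
  exact pElts_normal h

theorem PClosed.of_injective {p : ℕ} {X Y : Type*} [Group X] [Group Y] (f : X →* Y)
    (hf : Function.Injective f) (h : PClosed p Y) : PClosed p X := by
  rintro x y ⟨k, hk⟩ ⟨l, hl⟩
  obtain ⟨m, hm⟩ := h (f x) (f y) ⟨k, by rw [← map_pow, hk, map_one]⟩
    ⟨l, by rw [← map_pow, hl, map_one]⟩
  exact ⟨m, hf (by rw [map_pow, map_mul, hm, map_one])⟩

section rep

variable {G : Type*} [Group G]

/-- If an element has a value of maximal modulus, all commutators with it are in the kernel. -/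
theorem apply_commutator_eq [Finite G] {ψ : G → ℂ} (hψ : IsIrrCharacter G ψ) {d : ℕ}
    (hd : ψ 1 = d) {x : G} (hx : ‖ψ x‖ = d) (g : G) : ψ (x * g * x⁻¹ * g⁻¹) = ψ 1 := by
  obtain ⟨n, ρ, hρ, rfl⟩ := hψ
  have h1 : (Module.finrank ℂ (Fin n → ℂ) : ℂ) = d := by rw [← hd, Representation.char_one]
  have h2 : Module.finrank ℂ (Fin n → ℂ) = d := by exact_mod_cast h1
  rw [← h2] at hx
  obtain ⟨ω, hω⟩ := (Cfsg.Agent.Characters.Values.norm_character_eq_iff ρ x).1 hx
  have h3 : ρ x * ρ g = ρ g * ρ x := by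
    rw [hω]
    ext v
    simp
  have h4 : ρ (x * g * x⁻¹ * g⁻¹) = 1 := by
    rw [map_mul, map_mul, map_mul, h3, mul_assoc (ρ g), ← map_mul ρ x, mul_inv_cancel, map_one,
      mul_one, ← map_mul, mul_inv_cancel, map_one]
  unfold Representation.character
  rw [h4, map_one ρ]

/-- The values of modulus one of a linear character. -/
theorem norm_eq_one_of_degree_one [Finite G] {ψ : G → ℂ} (hψ : IsIrrCharacter G ψ)
    (hd : ψ 1 = 1) (x : G) : ‖ψ x‖ = 1 := by
  obtain ⟨n, ρ, hρ, rfl⟩ := hψ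
  have h1 : (Module.finrank ℂ (Fin n → ℂ) : ℂ) = 1 := by rw [← hd, Representation.char_one]
  have h2 : Module.finrank ℂ (Fin n → ℂ) = 1 := by exact_mod_cast h1
  have h3 : ∃ ω : ℂ, ρ x = ω • (LinearMap.id : (Fin n → ℂ) →ₗ[ℂ] (Fin n → ℂ)) := by
    obtain ⟨v, hv, hv'⟩ := finrank_eq_one_iff'.1 h2
    obtain ⟨c, hc⟩ := hv' (ρ x v)
    refine ⟨c, LinearMap.ext fun w => ?_⟩
    obtain ⟨b, rfl⟩ := hv' w
    rw [map_smul, ← hc, LinearMap.smul_apply, LinearMap.id_apply, smul_comm]
  have := (Cfsg.Agent.Characters.Values.norm_character_eq_iff ρ x).2 h3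
  rw [this, h2]
  simp

/-- decomposition with positive multiplicities and degrees bounded. -/
theorem exists_constituents [Finite G] {n : ℕ} (ρ : Representation ℂ G (Fin n → ℂ)) :
    ∃ (s : Finset (G → ℂ)), (∀ ψ ∈ s, IsIrrCharacter G ψ ∧ ∃ d : ℕ, 0 < d ∧ d ≤ n ∧ ψ 1 = d) ∧
      ∀ g : G, (∀ ψ ∈ s, ψ g = ψ 1) → ρ g = 1 := by
  classical
  have : Fintype G := Fintype.ofFinite G
  obtain ⟨s, m, hs, hsum⟩ := Cfsg.Agent.CharactersDeep.SmallDegree.exists_mult
    (isCharacter_of_rep ρ)
  refine ⟨s.filter (fun ψ => m ψ ≠ 0), ?_, ?_⟩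
  · intro ψ hψ
    obtain ⟨hψs, hm⟩ := Finset.mem_filter.1 hψ
    refine ⟨hs ψ hψs, ?_⟩
    obtain ⟨d, hd, hd1⟩ := isIrr_apply_one (hs ψ hψs)
    refine ⟨d, hd, ?_, hd1⟩
    have hdeg : ∀ ψ : G → ℂ, ∃ n : ℕ, ψ ∈ s → (0 < n ∧ ψ 1 = n) := by
      intro ψ
      by_cases h : ψ ∈ s
      · obtain ⟨n, hn⟩ := isIrr_apply_one (hs ψ h)
        exact ⟨n, fun _ => hn⟩
      · exact ⟨0, fun h' => absurd h' h⟩
    choose deg hdeg using hdeg
    have h1 : (n : ℂ) = ((∑ ψ ∈ s, m ψ * deg ψ : ℕ) : ℂ) := by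
      have h2 : ρ.character 1 = n := by rw [Representation.char_one]; simp
      rw [← h2, hsum, Finset.sum_apply]
      push_cast
      refine Finset.sum_congr rfl fun ψ hψ => ?_
      rw [Pi.smul_apply, (hdeg ψ hψ).2, nsmul_eq_mul]
    have h2 : n = ∑ ψ ∈ s, m ψ * deg ψ := by exact_mod_cast h1
    have h3 : d = deg ψ := by
      have : (d : ℂ) = deg ψ := by rw [← hd1, (hdeg ψ hψs).2]
      exact_mod_cast this
    rw [h2, h3]
    refine le_trans ?_ (Finset.single_le_sum (f := fun ψ => m ψ * deg ψ)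
      (fun _ _ => Nat.zero_le _) hψs)
    exact Nat.le_mul_of_pos_left _ (Nat.pos_of_ne_zero hm)
  · intro g hg
    have h1 : ρ.character g = ρ.character 1 := by
      rw [hsum, Finset.sum_apply, Finset.sum_apply]
      refine Finset.sum_congr rfl fun ψ hψ => ?_
      rw [Pi.smul_apply, Pi.smul_apply]
      by_cases hm : m ψ = 0
      · rw [hm, zero_smul, zero_smul]
      · rw [hg ψ (Finset.mem_filter.2 ⟨hψ, hm⟩)]
    rw [Representation.char_one] at h1
    exact (Cfsg.Agent.Characters.Values.character_eq_finrank_iff ρ g).1 h1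

/-- p-subgroups of linear groups of degree `< p` are abelian. -/
theorem comm_of_isPGroup [Finite G] {n : ℕ} (ρ : Representation ℂ G (Fin n → ℂ))
    (hρ : Function.Injective ρ) {p : ℕ} [hp : Fact p.Prime] (hnp : n < p) (Q : Subgroup G)
    (hQ : IsPGroup p Q) {a b : G} (ha : a ∈ Q) (hb : b ∈ Q) : a * b = b * a := by
  have h1 := Cfsg.Agent.S0185.result (G := Q) (ρ.comp Q.subtype)
    (fun x y hxy => Subtype.ext (hρ hxy)) (fun q hq hdvd => by
      have : q = p := by
        obtain ⟨k, hk⟩ := IsPGroup.iff_card.1 hQ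
        rw [hk] at hdvd
        exact (Nat.prime_dvd_prime_iff_eq hq hp.out).1 (hq.dvd_of_dvd_pow hdvd)
      rw [this]
      simpa using hnp) ⟨a, ha⟩ ⟨b, hb⟩
  exact congrArg Subtype.val h1

end rep

section group

variable {G : Type*} [Group G] [Finite G] {p : ℕ} [hp : Fact p.Prime]

theorem exists_sylow_of_pow {x : G} (hx : ∃ k : ℕ, x ^ p ^ k = 1) :
    ∃ Q : Sylow p G, x ∈ (Q : Subgroup G) := by
  obtain ⟨k, hk⟩ := hx
  have hz : IsPGroup p (Subgroup.zpowers x) := by
    rw [IsPGroup.iff_orderOf]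
    rintro ⟨y, hy⟩
    obtain ⟨j, rfl⟩ := Subgroup.mem_zpowers_iff.1 hy
    have h1 : orderOf (⟨x ^ j, hy⟩ : Subgroup.zpowers x) ∣ p ^ k := by
      apply orderOf_dvd_of_pow_eq_one
      apply Subtype.ext
      show (x ^ j) ^ p ^ k = 1
      rw [← zpow_natCast, ← zpow_mul, mul_comm, zpow_mul, zpow_natCast, hk, one_zpow]
    obtain ⟨i, _, hi⟩ := (Nat.dvd_prime_pow (Fact.out : p.Prime)).1 h1
    exact ⟨i, hi⟩
  obtain ⟨Q, hQ⟩ := hz.exists_le_sylow
  exact ⟨Q, hQ (Subgroup.mem_zpowers x)⟩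

theorem pow_of_mem_sylow {x : G} {Q : Sylow p G} (hx : x ∈ (Q : Subgroup G)) :
    ∃ k : ℕ, x ^ p ^ k = 1 := by
  obtain ⟨k, hk⟩ := Q.isPGroup' ⟨x, hx⟩
  exact ⟨k, congrArg Subtype.val hk⟩

/-- Lemma A: in a minimal counterexample a subgroup containing all `p`-elements is everything. -/
theorem eq_top_of_all (hnot : ¬ PClosed p G) (hIH : ∀ K : Subgroup G, K ≠ ⊤ → PClosed p K)
    (M : Subgroup G) (hM : ∀ x : G, (∃ k : ℕ, x ^ p ^ k = 1) → x ∈ M) : M = ⊤ := by
  by_contra hne
  apply hnot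
  rintro x y ⟨k, hk⟩ ⟨l, hl⟩
  obtain ⟨m, hm⟩ := hIH M hne ⟨x, hM x ⟨k, hk⟩⟩ ⟨y, hM y ⟨l, hl⟩⟩ ⟨k, Subtype.ext hk⟩
    ⟨l, Subtype.ext hl⟩
  exact ⟨m, congrArg Subtype.val hm⟩

/-- Lemma T: a noncentral `p`-element lies in a unique Sylow subgroup. -/
theorem sylow_eq_of_mem (hIH : ∀ K : Subgroup G, K ≠ ⊤ → PClosed p K)
    (hab : ∀ Q : Sylow p G, ∀ a ∈ (Q : Subgroup G), ∀ b ∈ (Q : Subgroup G), a * b = b * a)
    {x : G} (hx : x ∉ Subgroup.center G) (S T : Sylow p G) (hS : x ∈ (S : Subgroup G))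
    (hT : x ∈ (T : Subgroup G)) : S = T := by
  have hC : Subgroup.centralizer ({x} : Set G) ≠ ⊤ := by
    intro h
    apply hx
    rw [Subgroup.mem_center_iff]
    intro g
    have : g ∈ Subgroup.centralizer ({x} : Set G) := by rw [h]; exact Subgroup.mem_top g
    exact Subgroup.mem_centralizer_singleton_iff.1 this
  have hcl := hIH _ hC
  set R : Subgroup G := (pElts p hcl).map (Subgroup.centralizer ({x} : Set G)).subtype with hR
  have hRp : IsPGroup p R := (pElts_isPGroup hcl).map _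
  have key : ∀ U : Sylow p G, x ∈ (U : Subgroup G) → (U : Subgroup G) = R := by
    intro U hU
    refine (U.is_maximal' hRp ?_).symm
    intro y hy
    refine ⟨⟨y, ?_⟩, ?_, rfl⟩
    · exact Subgroup.mem_centralizer_singleton_iff.2 (hab U y hy x hU)
    · obtain ⟨k, hk⟩ := pow_of_mem_sylow hy
      exact ⟨k, Subtype.ext hk⟩
  exact Sylow.ext ((key S hS).trans (key T hT).symm)

/-- a normal Sylow subgroup gives `PClosed`. -/
theorem pclosed_of_normal (P : Sylow p G) (h : (P : Subgroup G).Normal) : PClosed p G := by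
  refine pclosed_of_sylow_normal fun Q => ?_
  have := Sylow.unique_of_normal P h
  have hPQ : Q = P := Subsingleton.elim _ _
  rw [hPQ]
  exact h

/-- A normal `p`-subgroup is in every Sylow subgroup. -/
theorem le_sylow_of_normal (R : Subgroup G) [R.Normal] (hR : IsPGroup p R) (Q : Sylow p G) :
    R ≤ Q := by
  have h1 : IsPGroup p (R ⊔ Q : Subgroup G) := IsPGroup.to_sup_of_normal_left hR Q.isPGroup'
  have h2 := Q.is_maximal' h1 le_sup_right
  rw [← h2]
  exact le_sup_left

/-- Case I: no central `p`-elements. -/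
theorem caseOne {n : ℕ} (ρ : Representation ℂ G (Fin n → ℂ)) (hρ : Function.Injective ρ)
    (hnot : ¬ PClosed p G) (hIH : ∀ K : Subgroup G, K ≠ ⊤ → PClosed p K) (hn : n + 1 < p)
    (P : Sylow p G) (hcard : (n + 1) ^ 2 ≤ Nat.card P)
    (hZ : (P : Subgroup G) ⊓ Subgroup.center G = ⊥) : False := by
  classical
  have : Fintype G := Fintype.ofFinite G
  have : Fintype P := Fintype.ofFinite P
  have hab : ∀ Q : Sylow p G, ∀ a ∈ (Q : Subgroup G), ∀ b ∈ (Q : Subgroup G), a * b = b * a :=
    fun Q a ha b hb => comm_of_isPGroup ρ hρ (by omega) Q Q.isPGroup' ha hb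
  obtain ⟨s, hs, hker⟩ := exists_constituents ρ
  by_cases hall : ∀ ψ ∈ s, (∀ x ∈ (P : Subgroup G), ψ x = ψ 1) ∨ ψ 1 = 1
  · -- `P` is central
    have hcent : (P : Subgroup G) ≤ Subgroup.center G := by
      intro x hx
      rw [Subgroup.mem_center_iff]
      intro g
      have h1 : ρ (x * g * x⁻¹ * g⁻¹) = 1 := by
        apply hker
        intro ψ hψ
        obtain ⟨hirr, d, hd0, hdn, hd⟩ := hs ψ hψ
        apply apply_commutator_eq hirr hd
        rcases hall ψ hψ with h | h
        · rw [h x hx, hd, Complex.norm_natCast]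
        · rw [norm_eq_one_of_degree_one hirr h x]
          have : (d : ℂ) = 1 := by rw [← hd, h]
          have : d = 1 := by exact_mod_cast this
          rw [this, Nat.cast_one]
      have h2 : x * g * x⁻¹ * g⁻¹ = 1 := hρ (by rw [h1, map_one ρ])
      calc g * x = (x * g * x⁻¹ * g⁻¹)⁻¹ * (x * g) := by group
        _ = x * g := by rw [h2]; group
    have hnormal : (P : Subgroup G).Normal := by
      constructor
      intro x hx g
      have h1 : g * x = x * g := Subgroup.mem_center_iff.1 (hcent hx) g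
      rw [h1, mul_assoc, mul_inv_cancel, mul_one]
      exact hx
    exact hnot (pclosed_of_normal P hnormal)
  · push Not at hall
    obtain ⟨ψ, hψ, ⟨x, hx, hx1⟩, hψ1⟩ := hall
    obtain ⟨hirr, d, hd0, hdn, hd⟩ := hs ψ hψ
    -- the hypothesis on centralizers
    have hsmul : ∀ a : G, ((a • P : Sylow p G) : Subgroup G) =
        (P : Subgroup G).map (MulAut.conj a).toMonoidHom := fun a => rfl
    have hnc : ∀ (a y : G), y ∈ (P : Subgroup G).map (MulAut.conj a).toMonoidHom → y ≠ 1 →
        y ∉ Subgroup.center G := by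
      rintro a y ⟨h, hh, rfl⟩ hy1 hyc
      apply hy1
      have h1 : (MulAut.conj a).toMonoidHom h = a * h * a⁻¹ := rfl
      rw [h1] at hyc ⊢
      have h2 : h = a * h * a⁻¹ := by
        have h3 := Subgroup.mem_center_iff.1 hyc a
        have h4 : a * h = a * h * a⁻¹ * a := by group
        have h5 : a * (a * h * a⁻¹) = a * h := by rw [h3]; group
        exact (mul_left_cancel h5).symm
      have h3 : h ∈ (P : Subgroup G) ⊓ Subgroup.center G := ⟨hh, by rw [h2]; exact hyc⟩
      rw [hZ, Subgroup.mem_bot] at h3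
      rw [h3]
      group
    have hone : ∀ g : G, g ∉ Subgroup.center G → ∀ a b : G,
        Subgroup.centralizer ({g} : Set G) ⊓
          (P : Subgroup G).map (MulAut.conj a).toMonoidHom ≠ ⊥ →
        Subgroup.centralizer ({g} : Set G) ⊓
          (P : Subgroup G).map (MulAut.conj b).toMonoidHom ≠ ⊥ →
        (P : Subgroup G).map (MulAut.conj a).toMonoidHom =
          (P : Subgroup G).map (MulAut.conj b).toMonoidHom := by
      intro g hg a b ha hb
      have hC : Subgroup.centralizer ({g} : Set G) ≠ ⊤ := by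
        intro h
        apply hg
        rw [Subgroup.mem_center_iff]
        intro x
        have : x ∈ Subgroup.centralizer ({g} : Set G) := by rw [h]; exact Subgroup.mem_top x
        exact Subgroup.mem_centralizer_singleton_iff.1 this
      have hcl := hIH _ hC
      set R : Subgroup G := (pElts p hcl).map (Subgroup.centralizer ({g} : Set G)).subtype with hR
      have hRp : IsPGroup p R := (pElts_isPGroup hcl).map _
      obtain ⟨S, hRS⟩ := hRp.exists_le_sylow
      have key : ∀ c : G, Subgroup.centralizer ({g} : Set G) ⊓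
          (P : Subgroup G).map (MulAut.conj c).toMonoidHom ≠ ⊥ → S = c • P := by
        intro c hc
        obtain ⟨⟨y, hy⟩, hy1'⟩ := Subgroup.ne_bot_iff_exists_ne_one.1 hc
        have hy1 : y ≠ 1 := fun h => hy1' (Subtype.ext h)
        have hyP : y ∈ ((c • P : Sylow p G) : Subgroup G) := hy.2
        refine sylow_eq_of_mem hIH hab (hnc c y hy.2 hy1) S (c • P) ?_ hyP
        apply hRS
        refine ⟨⟨y, hy.1⟩, ?_, rfl⟩
        obtain ⟨k, hk⟩ := pow_of_mem_sylow hyP
        exact ⟨k, Subtype.ext hk⟩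
      have h1 : (a • P : Sylow p G) = b • P := (key a ha).symm.trans (key b hb)
      rw [← hsmul, ← hsmul, h1]
    have hfinal := (Cfsg.Agent.S0898.result (P : Subgroup G) (hab P) hZ hone ψ hirr
      ⟨x, hx, hx1⟩).2 hψ1 ?_
    · rw [hd, Complex.natCast_re] at hfinal
      have h1 : (Nat.card P : ℝ) < (1 + (d : ℝ)) ^ 2 := hfinal
      have h2 : Nat.card P < (1 + d) ^ 2 := by exact_mod_cast h1
      have h3 : (1 + d) ^ 2 ≤ (n + 1) ^ 2 := Nat.pow_le_pow_left (by omega) 2
      omega
    · intro M hM hPM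
      refine eq_top_of_all hnot hIH M ?_
      intro y hy
      obtain ⟨Q, hyQ⟩ := exists_sylow_of_pow hy
      obtain ⟨c, hc⟩ := MulAction.exists_smul_eq G P Q
      rw [← hc] at hyQ
      have h1 : y ∈ (P : Subgroup G).map (MulAut.conj c).toMonoidHom := hyQ
      obtain ⟨h, hh, rfl⟩ := h1
      exact hM.conj_mem h (hPM hh) c

/-- A central `p`-element in the normal subgroup generated by the `p'`-elements is trivial. -/
theorem eq_one_of_central {n : ℕ} (ρ : Representation ℂ G (Fin n → ℂ))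
    (hρ : Function.Injective ρ) (hn : n < p) {z : G} (hz : ∃ k : ℕ, z ^ p ^ k = 1)
    (hzc : z ∈ Subgroup.center G)
    (hzM : z ∈ Subgroup.normalClosure {g : G | (orderOf g).Coprime p}) : z = 1 := by
  obtain ⟨s, hs, hker⟩ := exists_constituents ρ
  apply hρ
  rw [map_one ρ]
  apply hker
  intro ψ hψ
  obtain ⟨hirr, d, hd0, hdn, hd⟩ := hs ψ hψ
  obtain ⟨e, σ, hσ, rfl⟩ := hirr
  have he : e = d := by
    have h1 : (Module.finrank ℂ (Fin e → ℂ) : ℂ) = d := by rw [← hd, Representation.char_one]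
    have h2 : Module.finrank ℂ (Fin e → ℂ) = d := by exact_mod_cast h1
    simpa using h2
  subst he
  have hcomm : ∀ g, g * z = z * g := fun g => Subgroup.mem_center_iff.1 hzc g
  obtain ⟨ω, hω, hσz⟩ := Cfsg.Agent.CharactersDeep.SmallDegree.exists_central_smul σ hσ hcomm
  -- the determinant
  let D : G →* ℂ := (LinearMap.det : ((Fin e → ℂ) →ₗ[ℂ] (Fin e → ℂ)) →* ℂ).comp σ
  have hDz : D z = ω ^ e := by
    show LinearMap.det (σ z) = ω ^ e
    rw [hσz, LinearMap.det_smul, map_one, mul_one]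
    simp
  let N : ℕ := ordCompl[p] (Nat.card G)
  have hNp : ¬ p ∣ N := Nat.not_dvd_ordCompl hp.out Nat.card_pos.ne'
  -- all p'-elements satisfy `D g ^ N = 1`
  let K : Subgroup G := {
    carrier := {g | D g ^ N = 1}
    mul_mem' := fun {a b} ha hb => by
      show D (a * b) ^ N = 1
      rw [map_mul, mul_pow, show D a ^ N = 1 from ha, show D b ^ N = 1 from hb, one_mul]
    one_mem' := by show D 1 ^ N = 1; rw [map_one, one_pow]
    inv_mem' := fun {a} ha => by
      have h1 : D a * D a⁻¹ = 1 := by rw [← map_mul, mul_inv_cancel, map_one]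
      have h2 : (D a * D a⁻¹) ^ N = 1 := by rw [h1, one_pow]
      rw [mul_pow, show D a ^ N = 1 from ha, one_mul] at h2
      exact h2 }
  have hKn : K.Normal := by
    constructor
    intro a ha g
    show D (g * a * g⁻¹) ^ N = 1
    have h1 : D g * D g⁻¹ = 1 := by rw [← map_mul, mul_inv_cancel, map_one]
    rw [map_mul, map_mul, mul_comm (D g), mul_assoc, h1, mul_one]
    exact ha
  have hzK : z ∈ K := by
    refine (Subgroup.normalClosure_le_normal ?_) hzM
    intro g hg
    show D g ^ N = 1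
    have h1 : orderOf g ∣ N := by
      have h2 : orderOf g ∣ ordProj[p] (Nat.card G) * N := by
        rw [Nat.ordProj_mul_ordCompl_eq_self]
        exact orderOf_dvd_natCard g
      refine Nat.Coprime.dvd_of_dvd_mul_left ?_ h2
      exact Nat.Coprime.pow_right _ hg
    obtain ⟨c, hc⟩ := h1
    rw [hc, pow_mul, ← map_pow, pow_orderOf_eq_one, map_one, one_pow]
  have h1 : ω ^ (e * N) = 1 := by
    rw [pow_mul, ← hDz]
    exact hzK
  obtain ⟨k, hk⟩ := hz
  have h2 : ω ^ p ^ k = 1 := by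
    have h3 : (σ z) ^ p ^ k = 1 := by rw [← map_pow, hk, map_one]
    rw [hσz, smul_pow, one_pow] at h3
    have : Nontrivial (Fin e → ℂ) := by
      have : Nonempty (Fin e) := ⟨⟨0, hd0⟩⟩
      exact Pi.nontrivial_at (Classical.arbitrary (Fin e))
    obtain ⟨v, hv⟩ := exists_ne (0 : Fin e → ℂ)
    have h4 := congrArg (fun f : Module.End ℂ (Fin e → ℂ) => f v) h3
    simp only [LinearMap.smul_apply, Module.End.one_apply] at h4
    have h5 : (ω ^ p ^ k - 1) • v = 0 := by rw [sub_smul, h4, one_smul, sub_self]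
    rcases smul_eq_zero.1 h5 with h | h
    · exact sub_eq_zero.1 h
    · exact absurd h hv
  have h3 : orderOf ω = 1 := by
    have hcop : (e * N).Coprime (p ^ k) := by
      apply Nat.Coprime.pow_right
      apply Nat.Coprime.mul_left
      · exact (Nat.coprime_of_lt_prime hd0.ne' (by omega) hp.out).symm
      · exact ((Nat.Prime.coprime_iff_not_dvd hp.out).2 hNp).symm
    exact Nat.eq_one_of_dvd_coprimes hcop (orderOf_dvd_of_pow_eq_one h1)
      (orderOf_dvd_of_pow_eq_one h2)
  have h4 : ω = 1 := orderOf_eq_one_iff.1 h3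
  unfold Representation.character
  rw [hσz, h4, one_smul, map_one σ]

/-- Case II: there is a central `p`-element. -/
theorem caseTwo {n : ℕ} (ρ : Representation ℂ G (Fin n → ℂ)) (hρ : Function.Injective ρ)
    (hnot : ¬ PClosed p G) (hIH : ∀ K : Subgroup G, K ≠ ⊤ → PClosed p K) (hn : n + 1 < p)
    {z : G} (hz : ∃ k : ℕ, z ^ p ^ k = 1) (hz1 : z ≠ 1) (hzc : z ∈ Subgroup.center G) :
    False := by
  classical
  have : Fintype G := Fintype.ofFinite G
  have hab : ∀ Q : Sylow p G, ∀ a ∈ (Q : Subgroup G), ∀ b ∈ (Q : Subgroup G), a * b = b * a :=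
    fun Q a ha b hb => comm_of_isPGroup ρ hρ (by omega) Q Q.isPGroup' ha hb
  set M : Subgroup G := Subgroup.normalClosure {g : G | (orderOf g).Coprime p} with hMdef
  have hMn : M.Normal := Subgroup.normalClosure_normal
  have hp'M : ∀ g : G, (orderOf g).Coprime p → g ∈ M := fun g hg =>
    Subgroup.subset_normalClosure hg
  have hMtop : M ≠ ⊤ := by
    intro h
    exact hz1 (eq_one_of_central ρ hρ (by omega) hz hzc (by rw [← hMdef, h]; exact Subgroup.mem_top z))
  have hcl := hIH M hMtop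
  -- `M` has no `p`-elements
  have hMp : ∀ x ∈ M, (∃ k : ℕ, x ^ p ^ k = 1) → x = 1 := by
    intro x hxM hx
    set R : Subgroup G := (pElts p hcl).map M.subtype with hR
    have hRp : IsPGroup p R := (pElts_isPGroup hcl).map _
    have hRn : R.Normal := by
      constructor
      rintro y ⟨⟨y', hy'⟩, ⟨k, hk⟩, rfl⟩ g
      refine ⟨⟨g * y' * g⁻¹, hMn.conj_mem y' hy' g⟩, ⟨k, ?_⟩, rfl⟩
      apply Subtype.ext
      show (g * y' * g⁻¹) ^ p ^ k = 1
      have h1 : y' ^ p ^ k = 1 := congrArg Subtype.val hk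
      rw [conj_pow, h1, mul_one, mul_inv_cancel]
    have hxR : x ∈ R := by
      obtain ⟨k, hk⟩ := hx
      exact ⟨⟨x, hxM⟩, ⟨k, Subtype.ext hk⟩, rfl⟩
    have hcent : Subgroup.centralizer ({x} : Set G) = ⊤ := by
      refine eq_top_of_all hnot hIH _ ?_
      intro y hy
      obtain ⟨Q, hyQ⟩ := exists_sylow_of_pow hy
      rw [Subgroup.mem_centralizer_singleton_iff]
      exact hab Q y hyQ x (le_sylow_of_normal R hRp Q hxR)
    have hxc : x ∈ Subgroup.center G := by
      rw [Subgroup.mem_center_iff]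
      intro g
      have : g ∈ Subgroup.centralizer ({x} : Set G) := by rw [hcent]; exact Subgroup.mem_top g
      exact Subgroup.mem_centralizer_singleton_iff.1 this
    exact eq_one_of_central ρ hρ (by omega) hx hxc hxM
  have hMcop : (Nat.card M).Coprime p := by
    rw [Nat.coprime_comm, Nat.Prime.coprime_iff_not_dvd hp.out]
    intro hdvd
    obtain ⟨x, hx⟩ := exists_prime_orderOf_dvd_card' p hdvd
    have h1 : (x : G) = 1 := by
      apply hMp x x.2
      refine ⟨1, ?_⟩
      have h2 : x ^ p = 1 := by rw [← hx]; exact pow_orderOf_eq_one x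
      rw [pow_one]
      exact congrArg Subtype.val h2
    have h2 : x = 1 := Subtype.ext h1
    rw [h2, orderOf_one] at hx
    exact hp.out.one_lt.ne hx
  -- all `p`-elements centralize `M`
  have hcentM : ∀ y : G, (∃ k : ℕ, y ^ p ^ k = 1) → y ∈ Subgroup.centralizer (M : Set G) := by
    intro y hy
    by_contra hyM
    obtain ⟨k₀, hk₀⟩ := hy
    have hex : ∃ j : ℕ, y ^ p ^ j ∈ Subgroup.centralizer (M : Set G) :=
      ⟨k₀, by rw [hk₀]; exact Subgroup.one_mem _⟩
    set j := Nat.find hex with hj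
    have hjspec : y ^ p ^ j ∈ Subgroup.centralizer (M : Set G) := Nat.find_spec hex
    have hj0 : j ≠ 0 := by
      intro h0
      rw [h0, pow_zero, pow_one] at hjspec
      exact hyM hjspec
    obtain ⟨i, hi⟩ := Nat.exists_eq_succ_of_ne_zero hj0
    have hmin : y ^ p ^ i ∉ Subgroup.centralizer (M : Set G) := by
      apply Nat.find_min hex
      omega
    set x : G := y ^ p ^ i with hxdef
    have hxp : x ^ p ∈ Subgroup.centralizer (M : Set G) := by
      rw [hxdef, ← pow_mul, ← pow_succ, ← Nat.succ_eq_add_one, ← hi]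
      exact hjspec
    have hxpow : x ^ p ^ k₀ = 1 := by
      rw [hxdef, ← pow_mul, mul_comm, pow_mul, hk₀, one_pow]
    obtain ⟨l, hl⟩ : ∃ l : ℕ, orderOf x = p ^ l := by
      obtain ⟨l, _, hl⟩ := (Nat.dvd_prime_pow hp.out).1 (orderOf_dvd_of_pow_eq_one hxpow)
      exact ⟨l, hl⟩
    have hx1 : x ≠ 1 := by
      intro h
      apply hmin
      rw [h]
      exact Subgroup.one_mem _
    obtain ⟨k, rfl⟩ : ∃ k, l = k + 1 := by
      rcases Nat.eq_zero_or_pos l with h | h
      · rw [h, pow_zero] at hl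
        exact absurd (orderOf_eq_one_iff.1 hl) hx1
      · exact ⟨l - 1, by omega⟩
    -- the subgroup `M ⟨x⟩`
    set G₁ : Subgroup G := M ⊔ Subgroup.zpowers x with hG₁
    have hMG₁ : M ≤ G₁ := le_sup_left
    have hxG₁ : x ∈ G₁ := (le_sup_right : Subgroup.zpowers x ≤ G₁) (Subgroup.mem_zpowers x)
    let x₁ : G₁ := ⟨x, hxG₁⟩
    have : (M.subgroupOf G₁).Normal := Subgroup.normal_subgroupOf
    have hcard₁ : (Nat.card (M.subgroupOf G₁)).Coprime p := by
      rw [Nat.card_congr (Subgroup.subgroupOfEquivOfLe hMG₁).toEquiv]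
      exact hMcop
    have hord₁ : orderOf x₁ = p ^ (k + 1) := by
      rw [← hl]
      exact (Subgroup.orderOf_mk x hxG₁)
    have htop₁ : M.subgroupOf G₁ ⊔ Subgroup.zpowers x₁ = ⊤ := by
      apply Subgroup.map_injective G₁.subtype_injective
      rw [Subgroup.map_sup, Subgroup.map_subgroupOf_eq_of_le hMG₁, MonoidHom.map_zpowers,
        ← MonoidHom.range_eq_map, Subgroup.range_subtype]
      rfl
    have hxp₁ : ∀ g : G₁, g * x₁ ^ p = x₁ ^ p * g := by
      have h1 : G₁ ≤ Subgroup.centralizer {x ^ p} := by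
        refine sup_le ?_ ?_
        · intro m hm
          rw [Subgroup.mem_centralizer_singleton_iff]
          exact (Subgroup.mem_centralizer_iff.1 hxp m hm)
        · rw [Subgroup.zpowers_le, Subgroup.mem_centralizer_singleton_iff]
          exact (Commute.self_pow x p)
      intro g
      apply Subtype.ext
      exact Subgroup.mem_centralizer_singleton_iff.1 (h1 g.2)
    -- apply the small degree theorem
    apply hmin
    rw [Subgroup.mem_centralizer_iff]
    intro m hm
    obtain ⟨s, hs, hker⟩ := exists_constituents (ρ.comp G₁.subtype)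
    have h1 : (ρ.comp G₁.subtype) (x₁ * ⟨m, hMG₁ hm⟩ * x₁⁻¹ * (⟨m, hMG₁ hm⟩ : G₁)⁻¹) = 1 := by
      apply hker
      intro ψ hψ
      obtain ⟨hirr, d, hd0, hdn, hd⟩ := hs ψ hψ
      apply apply_commutator_eq hirr hd
      exact Cfsg.Agent.CharactersDeep.SmallDegree.norm_eq_degree p (M.subgroupOf G₁) hcard₁ x₁ k
        hord₁ htop₁ hxp₁ ψ hirr d hd (by omega)
    have h2 : ρ (x * m * x⁻¹ * m⁻¹) = 1 := h1
    have h3 : x * m * x⁻¹ * m⁻¹ = 1 := hρ (by rw [h2, map_one ρ])
    calc m * x = (x * m * x⁻¹ * m⁻¹)⁻¹ * (x * m) := by group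
      _ = x * m := by rw [h3]; group
  -- so `M` is central
  have hMcenter : ∀ m ∈ M, m ∈ Subgroup.center G := by
    have h1 : Subgroup.centralizer (M : Set G) = ⊤ := eq_top_of_all hnot hIH _ hcentM
    intro m hm
    rw [Subgroup.mem_center_iff]
    intro g
    have h2 : g ∈ Subgroup.centralizer (M : Set G) := by rw [h1]; exact Subgroup.mem_top g
    exact (Subgroup.mem_centralizer_iff.1 h2 m hm).symm
  -- hence a Sylow subgroup is normal
  obtain ⟨P⟩ := (inferInstance : Nonempty (Sylow p G))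
  have hN : Subgroup.normalizer ((P : Subgroup G) : Set G) = ⊤ := by
    apply Cfsg.Agent.Lib.Cores.eq_top_of_sylow_le
    intro q hq
    by_cases hqp : q = p
    · subst hqp
      refine ⟨P, ?_⟩
      exact Subgroup.le_normalizer
    · obtain ⟨Q⟩ := (inferInstance : Nonempty (Sylow q G))
      refine ⟨Q, ?_⟩
      intro y hy
      have h1 : y ∈ Subgroup.center G := by
        apply hMcenter
        apply hp'M
        obtain ⟨k, hk⟩ := Q.isPGroup' ⟨y, hy⟩
        have h2 : y ^ q ^ k = 1 := congrArg Subtype.val hk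
        have h3 : orderOf y ∣ q ^ k := orderOf_dvd_of_pow_eq_one h2
        refine Nat.Coprime.coprime_dvd_left h3 (Nat.Coprime.pow_left _ ?_)
        exact (Nat.coprime_primes hq.out hp.out).2 hqp
      rw [Subgroup.mem_normalizer_iff]
      intro h
      have h2 : y * h * y⁻¹ = h := by
        rw [← Subgroup.mem_center_iff.1 h1 h, mul_assoc, mul_inv_cancel, mul_one]
      rw [h2]
  exact hnot (pclosed_of_normal P (Subgroup.normalizer_eq_top_iff.1 hN))

end group

/-- The Feit–Thompson–Blichfeldt theorem for `PClosed`. -/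
theorem main {G : Type*} [Group G] [Finite G] (p : ℕ) [hp : Fact p.Prime] (n : ℕ)
    (ρ : Representation ℂ G (Fin n → ℂ)) (hρ : Function.Injective ρ)
    (h : (n + 1) ^ 2 ≤ p ∨ (n + 1 < p ∧ ∀ K : Subgroup G, ¬ p ^ 2 ∣ Nat.card K → PClosed p K)) :
    PClosed p G := by
  induction hN : Nat.card G using Nat.strong_induction_on generalizing G with
  | _ N ih =>
  subst hN
  by_contra hnot
  have hIH : ∀ K : Subgroup G, K ≠ ⊤ → PClosed p K := by
    intro K hK
    refine ih (Nat.card K) ?_ (ρ.comp K.subtype) (fun x y hxy => Subtype.ext (hρ hxy)) ?_ rfl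
    · exact lt_of_le_of_ne (Subgroup.card_le_card_group K)
        (fun h => hK (Subgroup.eq_top_of_card_eq K h))
    · refine h.imp id (fun h' => ⟨h'.1, fun L hL => ?_⟩)
      have h1 : Nat.card (L.map K.subtype) = Nat.card L :=
        (Nat.card_congr (L.equivMapOfInjective K.subtype K.subtype_injective).toEquiv).symm
      have h2 := h'.2 (L.map K.subtype) (by rw [h1]; exact hL)
      exact h2.of_injective (L.equivMapOfInjective K.subtype K.subtype_injective).toMonoidHom
        (L.equivMapOfInjective K.subtype K.subtype_injective).injective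
  -- `n + 1 < p`
  have hn : n + 1 < p := by
    rcases h with h | h
    · rcases Nat.eq_zero_or_pos n with h0 | h0
      · exfalso
        subst h0
        apply hnot
        have hsub : ∀ a b : G, a = b := fun a b => hρ (Subsingleton.elim _ _)
        intro x y _ _
        exact ⟨0, hsub _ _⟩
      · nlinarith
    · exact h.1
  by_cases hZ : ∃ z : G, (∃ k : ℕ, z ^ p ^ k = 1) ∧ z ≠ 1 ∧ z ∈ Subgroup.center G
  · obtain ⟨z, hz, hz1, hzc⟩ := hZ
    exact caseTwo ρ hρ hnot hIH hn hz hz1 hzc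
  · obtain ⟨P⟩ := (inferInstance : Nonempty (Sylow p G))
    have hPZ : (P : Subgroup G) ⊓ Subgroup.center G = ⊥ := by
      rw [eq_bot_iff]
      rintro z ⟨hzP, hzc⟩
      rw [Subgroup.mem_bot]
      by_contra hz1
      exact hZ ⟨z, pow_of_mem_sylow hzP, hz1, hzc⟩
    refine caseOne ρ hρ hnot hIH hn P ?_ hPZ
    rcases h with h | h
    · -- `p` divides the order
      have hdvd : p ∣ Nat.card P := by
        obtain ⟨k, hk⟩ := IsPGroup.iff_card.1 P.isPGroup'
        rcases Nat.eq_zero_or_pos k with h0 | h0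
        · exfalso
          rw [h0, pow_zero] at hk
          have hbot : (P : Subgroup G) = ⊥ := Subgroup.card_eq_one.1 hk
          exact hnot (pclosed_of_normal P (by rw [hbot]; infer_instance))
        · rw [hk]
          exact dvd_pow_self p h0.ne'
      exact h.trans (Nat.le_of_dvd Nat.card_pos hdvd)
    · have hdvd : p ^ 2 ∣ Nat.card G := by
        by_contra hnd
        have h1 : Nat.card (⊤ : Subgroup G) = Nat.card G := Subgroup.card_top
        have h2 := h.2 ⊤ (by rw [h1]; exact hnd)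
        exact hnot (h2.of_injective (Subgroup.topEquiv.symm : G ≃* (⊤ : Subgroup G)).toMonoidHom
          (Subgroup.topEquiv.symm : G ≃* (⊤ : Subgroup G)).injective)
      have h1 : p ^ 2 ∣ Nat.card P := by
        have := P.pow_dvd_card_of_pow_dvd_card hdvd
        exact this
      have h2 : (n + 1) ^ 2 ≤ p ^ 2 := Nat.pow_le_pow_left hn.le 2
      exact h2.trans (Nat.le_of_dvd Nat.card_pos h1)

end Cfsg.Agent.CharactersDeep.NormalSylow
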